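import Groth.Agent.H14.BGPush.Fun
import Groth.Agent.H14.QuotGood.Chart

/-!
The chart of a classifying stack over an affine object of the base.
-/

set_option autoImplicit false
set_option backward.isDefEq.respectTransparency false
set_option backward.isDefEq.respectTransparency.types false
set_option linter.style.haveILetI false

universe u

open CategoryTheory CategoryTheory.Limits MonoidalCategory CartesianMonoidalCategory MonObj AlgebraicGeometry
open StMod (sch bmap fibCat baseOver)
open Groth.Agent.Lib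
open Groth.Agent.Lib.QuotSt.BGMono (coef bs exists_hom triv_ext coef_id coef_comp)
open Groth.Agent.H14.IsoNat.BGNeutral (triv exists_hom_triv)
open Groth.Agent.H14.GenFam

namespace Groth.Agent.H14.BGPush

variable {S : Scheme.{u}} {H : Over S} [GrpObj H]
  (σ : AlgSt.BG Scheme.fppfPrecoverage H ⥤ᵇ AlgSt.ofSch (Over.mk (𝟙 S)))
  (θ : (AlgSt.ofSch (Over.mk (𝟙 S))).obj)

/-- The arrow to an object of the base given by a morphism of the bases. -/
noncomputable def arr (z : (AlgSt.BG Scheme.fppfPrecoverage H).obj) (f : z.base ⟶ θ.base) : σ.obj z ⟶ θ :=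
  ⟨eqToHom (σ.w_obj z) ≫ f, congrArg ULift.up (CartesianMonoidalCategory.toUnit_unique (X := (σ.obj z).base) _ _)⟩

theorem baseOver_arr (z : (AlgSt.BG Scheme.fppfPrecoverage H).obj) (f : z.base ⟶ θ.base) :
    baseOver σ z (arr σ θ z f) = f := by
  show eqToHom _ ≫ eqToHom (σ.w_obj z) ≫ f = f
  simp

theorem arr_ext {z : (AlgSt.BG Scheme.fppfPrecoverage H).obj} {α β : σ.obj z ⟶ θ}
    (h : baseOver σ z α = baseOver σ z β) : α = β :=
  Stk.EltObj.hom_ext ((cancel_epi (eqToHom (σ.w_obj z).symm)).1 h)

theorem w_arr {z' z : (AlgSt.BG Scheme.fppfPrecoverage H).obj} (k : z' ⟶ z) (α : σ.obj z ⟶ θ) (f : z'.base ⟶ θ.base)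
    (e : k.base ≫ baseOver σ z α = f) : σ.map k ≫ α = arr σ θ z' f := by
  refine arr_ext σ θ ?_
  rw [baseOver_arr, ← e]
  exact (StMod.map_comp_baseOver σ k α).symm

/-- An object over the given one, from a trivial torsor. -/
noncomputable abbrev node (V : Over S) (f : V ⟶ θ.base) : (fibCat σ θ).obj :=
  CostructuredArrow.mk (arr σ θ (triv H V) f)

/-- A morphism between such objects. -/
theorem exists_node_hom {V' V : Over S} (f' : V' ⟶ θ.base) (f : V ⟶ θ.base) (u : V' ⟶ V) (c : V' ⟶ H)
    (e : u ≫ f = f') : ∃ k : node σ θ V' f' ⟶ node σ θ V f, bs k.left = u ∧ coef k.left = c := by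
  obtain ⟨a, ha, hc⟩ := exists_hom u c
  exact ⟨CostructuredArrow.homMk a (w_arr σ θ a _ _ ((congrArg (fun k => a.base ≫ k) (baseOver_arr σ θ (triv H V) f)).trans (by show bs a ≫ f = f'; rw [ha, e]))), ha, hc⟩

theorem node_hom_base {V' V : Over S} {f' : V' ⟶ θ.base} {f : V ⟶ θ.base}
    (k : node σ θ V' f' ⟶ node σ θ V f) : bs k.left ≫ f = f' := by
  have w : σ.map (X := triv H V') (Y := triv H V) k.left ≫ arr σ θ (triv H V) f = arr σ θ (triv H V') f' :=
    CostructuredArrow.w k
  have e := (StMod.map_comp_baseOver σ (ξ' := triv H V') (ξ := triv H V) k.left (arr σ θ (triv H V) f)).trans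
    ((congrArg (baseOver σ (triv H V')) w).trans (baseOver_arr σ θ (triv H V') f'))
  rw [baseOver_arr] at e
  exact e

variable [IsAffineHom H.hom] [Flat H.hom] [IsAffine θ.base.left]

/-- The chart given by the trivial torsor over the affine object. -/
theorem exists_chart :
    ∃ C : Chart (fibCat σ θ), ∃ (hx : C.x = node σ θ θ.base (𝟙 _)),
      ∃ (hw : C.w = node σ θ (H ⊗ θ.base) (snd H θ.base)),
      bs (eqToHom hw.symm ≫ C.p ≫ eqToHom hx).left = snd H θ.base ∧
      coef (eqToHom hw.symm ≫ C.p ≫ eqToHom hx).left = fst H θ.base ∧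
      bs (eqToHom hw.symm ≫ C.q ≫ eqToHom hx).left = snd H θ.base ∧
      coef (eqToHom hw.symm ≫ C.q ≫ eqToHom hx).left = 1 := by
  obtain ⟨p, hp₁, hp₂⟩ := exists_node_hom σ θ (snd H θ.base) (𝟙 _) (snd H θ.base) (fst H θ.base) (Category.comp_id _)
  obtain ⟨q, hq₁, hq₂⟩ := exists_node_hom σ θ (snd H θ.base) (𝟙 _) (snd H θ.base) (1 : H ⊗ θ.base ⟶ H) (Category.comp_id _)
  haveI : IsAffine (H ⊗ θ.base).left := QuotGood.isAffine_tensor
  refine ⟨{
    x := node σ θ θ.base (𝟙 _)
    w := node σ θ (H ⊗ θ.base) (snd H θ.base)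
    affx := show IsAffine θ.base.left from inferInstance
    affw := show IsAffine (H ⊗ θ.base).left from inferInstance
    p := p
    q := q
    cover := fun o ho => ?_
    overlap := fun o ho a b => ?_ }, rfl, rfl, ?_, ?_, ?_, ?_⟩
  · have hK : (Scheme.fppfPrecoverage : Precoverage Scheme.{u}) ≤ Scheme.fpqcPrecoverage :=
      Scheme.fppfPrecoverage_le_fpqcPrecoverage
    haveI : IsAffine o.left.base.left := ho
    have : IsAffineHom o.left.π.left := QuotSt.property_π hK o.left (inferInstance : IsAffineHom H.hom)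
    have hP : IsAffine o.left.P.left := isAffine_of_isAffineHom o.left.π.left
    have hf : Flat o.left.π.left := QuotSt.property_π hK o.left (inferInstance : Flat H.hom)
    have hs : Surjective o.left.π.left := Lib.QuotSt.surjective_π hK o.left
    obtain ⟨t, ht⟩ := exists_hom_triv H o.left (𝟙 o.left.P)
    have htb : t.base = o.left.π := by
      refine (Lib.QuotSt.base_of_isHomLift t ht).trans ?_
      exact Category.id_comp _
    let D : Cover (𝒳 := fibCat σ θ) o (Fin 1) :=
      { E := fun _ => node σ θ o.left.P (o.left.π ≫ baseOver σ o.left o.hom)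
        aff := fun _ => hP
        e := fun _ => CostructuredArrow.homMk t (w_arr σ θ t o.hom _ (by rw [htb]))
        flat := fun _ => by
          show Flat t.base.left
          rw [htb]; exact hf
        surj := fun z => ⟨0, by
          show z ∈ Set.range t.base.left
          rw [htb]; exact hs.surj z⟩ }
    obtain ⟨k, -, -⟩ := exists_node_hom σ θ (o.left.π ≫ baseOver σ o.left o.hom) (𝟙 _)
      (o.left.π ≫ baseOver σ o.left o.hom) (1 : o.left.P ⟶ H) (Category.comp_id _)
    exact ⟨1, D, fun _ => ⟨k⟩⟩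
  · haveI : IsAffine o.left.base.left := ho
    let s : o.left.base ⟶ o.left.P := a.left.cart.lift (lift 1 a.left.base) (𝟙 _) (by
      change lift 1 a.left.base ≫ snd H θ.base = _
      rw [lift_snd, Category.id_comp])
    have hs : s ≫ o.left.π = 𝟙 _ := a.left.cart.lift_snd _ _ _
    obtain ⟨t, ht⟩ := exists_hom_triv H o.left s
    have htb : t.base = 𝟙 _ := (Lib.QuotSt.base_of_isHomLift t ht).trans hs
    let f := baseOver σ o.left o.hom
    let k : node σ θ o.left.base f ⟶ o := CostructuredArrow.homMk t (w_arr σ θ t o.hom _ (by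
      rw [htb]; exact Category.id_comp _))
    let D : Cover (𝒳 := fibCat σ θ) o PUnit.{u + 1} :=
      { E := fun _ => node σ θ o.left.base f
        aff := fun _ => ho
        e := fun _ => k
        flat := fun _ => by
          show Flat t.base.left
          rw [htb]
          exact (inferInstance : Flat (𝟙 o.left.base.left))
        surj := fun z => ⟨⟨⟩, z, by show t.base.left z = z; rw [htb]; rfl⟩ }
    have ha : bs (k ≫ a).left = f := (Category.comp_id _).symm.trans (node_hom_base σ θ (k ≫ a))
    have hb : bs (k ≫ b).left = f := (Category.comp_id _).symm.trans (node_hom_base σ θ (k ≫ b))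
    let g := (coef (k ≫ b).left)⁻¹ * coef (k ≫ a).left
    obtain ⟨c, hc₁, hc₂⟩ := exists_node_hom σ θ f (snd H θ.base) (lift g f) (coef (k ≫ b).left) (lift_snd _ _)
    refine ⟨PUnit, inferInstance, D, fun _ => ⟨c, CostructuredArrow.hom_ext _ _ (triv_ext ?_ ?_),
      CostructuredArrow.hom_ext _ _ (triv_ext ?_ ?_)⟩⟩
    · show bs c.left ≫ bs p.left = bs (k ≫ a).left
      rw [hc₁, hp₁, lift_snd, ha]
    · show coef (c.left ≫ p.left) = coef (k ≫ a).left
      rw [coef_comp, hc₂, hc₁, hp₂, lift_fst, mul_inv_cancel_left]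
    · show bs c.left ≫ bs q.left = bs (k ≫ b).left
      rw [hc₁, hq₁, lift_snd, hb]
    · show coef (c.left ≫ q.left) = coef (k ≫ b).left
      rw [coef_comp, hc₂, hq₂, MonObj.comp_one, _root_.mul_one]
  all_goals simpa

end Groth.Agent.H14.BGPush
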