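import Groth.Agent.Lib.Fibred.StackLocal

/-!
Extension of a map of dense families, not assumed bijective, to a functor.
-/

set_option autoImplicit false
set_option backward.isDefEq.respectTransparency false
set_option backward.isDefEq.respectTransparency.types false

universe v₂ u₂ v₃ u₃ v u

open CategoryTheory CategoryTheory.Functor Groth.Agent.Lib.Fibred Groth.Agent.Lib.Fibred.Descent Groth.Agent.Lib.Fibred.StackLemmas

namespace Groth.Agent.H14.BGPush.Ext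

variable {C : Type u} [Category.{v} C] (𝒳 : BasedCategory.{v₂, u₂} C) (𝒴 : BasedCategory.{v₃, u₃} C)

/-- Families of objects of two categories over the base with the same morphisms. -/
structure Data where
  z : C → 𝒳.obj
  w : C → 𝒴.obj
  hz : ∀ V, 𝒳.p.obj (z V) = V
  hw : ∀ V, 𝒴.p.obj (w V) = V
  ex : ∀ {V' V : C} (u : V' ⟶ V), ∃ a : z V' ⟶ z V, 𝒳.p.IsHomLift u a
  M : ∀ {V' V : C}, (z V' ⟶ z V) → (w V' ⟶ w V)
  lifts : ∀ {V' V : C} (u : V' ⟶ V) (a : z V' ⟶ z V), 𝒳.p.IsHomLift u a → 𝒴.p.IsHomLift u (M a)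
  map_id : ∀ V, M (𝟙 (z V)) = 𝟙 (w V)
  map_comp : ∀ {V'' V' V : C} (a : z V'' ⟶ z V') (b : z V' ⟶ z V), M (a ≫ b) = M a ≫ M b

variable {𝒳 𝒴} (D : Data 𝒳 𝒴) (h𝒳 : FibCat.IsFibGrpd 𝒳.p) (h𝒴 : FibCat.IsFibGrpd 𝒴.p)

/-- The morphisms to the base of `x` along which `x` is a member of the family. -/
def sieve (x : 𝒳.obj) (U : C) : Sieve U where
  arrows V f := ∃ t : D.z V ⟶ x, 𝒳.p.IsHomLift f t
  downward_closed := by
    rintro V W f ⟨t, ht⟩ g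
    obtain ⟨a, ha⟩ := D.ex g
    exact ⟨a ≫ t, inferInstance⟩

/-- An object of the second category glued from the local identifications of `x`. -/
structure Img (x : 𝒳.obj) where
  y : 𝒴.obj
  hy : 𝒴.p.obj y = 𝒳.p.obj x
  τ : ∀ {V : C}, (D.z V ⟶ x) → (D.w V ⟶ y)
  lifts : ∀ {V : C} (f : V ⟶ 𝒳.p.obj x) (t : D.z V ⟶ x), 𝒳.p.IsHomLift f t → 𝒴.p.IsHomLift f (τ t)
  nat : ∀ {V' V : C} (a : D.z V' ⟶ D.z V) (t : D.z V ⟶ x), τ (a ≫ t) = D.M a ≫ τ t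

theorem base_eq {a b : 𝒳.obj} {V W : C} {f f' : V ⟶ W} {φ : a ⟶ b} (h : 𝒳.p.IsHomLift f φ)
    (h' : 𝒳.p.IsHomLift f' φ) : f = f' := by
  rw [IsHomLift.fac 𝒳.p f φ, IsHomLift.fac 𝒳.p f' φ]

theorem exists_base {x : 𝒳.obj} {V : C} (t : D.z V ⟶ x) :
    ∃ f : V ⟶ 𝒳.p.obj x, 𝒳.p.IsHomLift f t :=
  ⟨eqToHom (D.hz V).symm ≫ 𝒳.p.map t, IsHomLift.of_fac' _ _ _ (D.hz V) rfl (by simp)⟩

include h𝒳

/-- Every object has an image. -/
theorem exists_img (J : GrothendieckTopology C) (hY : Stk.IsStack J 𝒴) (x : 𝒳.obj)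
    (hl : sieve D x (𝒳.p.obj x) ∈ J (𝒳.p.obj x)) : Nonempty (Img D x) := by
  let R := sieve D x (𝒳.p.obj x)
  choose t ht using fun a : (Stk.sieveCat R).obj => a.property
  have ex : ∀ {a b : (Stk.sieveCat R).obj} (m : a ⟶ b),
      ∃ k : D.z a.obj.left ⟶ D.z b.obj.left, 𝒳.p.IsHomLift m.hom.left k ∧ k ≫ t b = t a := by
    intro a b m
    have := cart h𝒳 (t b) (ht b)
    have := ht a
    obtain ⟨ν, hν⟩ := (IsStronglyCartesian.universal_property 𝒳.p b.obj.hom (t b) m.hom.left a.obj.hom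
      (Over.w m.hom).symm (t a)).exists
    exact ⟨ν, hν⟩
  choose k hk hke using @ex
  let H₀ : (Stk.sieveCat R).obj ⥤ 𝒴.obj :=
    { obj := fun a => D.w a.obj.left
      map := fun m => D.M (k m)
      map_id := fun a => by
        refine (congrArg D.M ?_).trans (D.map_id _)
        exact ext_lift h𝒳 (t a) (ht a) (g := 𝟙 a.obj.left) (hk (𝟙 a)) (IsHomLift.id (D.hz _))
          ((hke _).trans (Category.id_comp _).symm)
      map_comp := fun {a b c} m n => by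
        rw [← D.map_comp]
        refine congrArg D.M ?_
        have := hk m
        have := hk n
        refine ext_lift h𝒳 (t c) (ht c) (g := m.hom.left ≫ n.hom.left) (hk (m ≫ n)) inferInstance ?_
        rw [hke, Category.assoc, hke, hke] }
  let H : Stk.sieveCat R ⥤ᵇ 𝒴 :=
    { toFunctor := H₀
      w := CategoryTheory.Functor.ext (fun a => D.hw a.obj.left) (fun a b m => by
        have : 𝒴.p.IsHomLift m.hom.left (D.M (k m)) := D.lifts _ _ (hk m)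
        exact IsHomLift.fac' 𝒴.p m.hom.left (D.M (k m))) }
  obtain ⟨g⟩ := ((isStackFor_iff hY.1).mp (hY.2 R hl)).2.2 H
  -- the arrow of the sieve carried by a local identification
  have hθ : ∀ {V : C} (s : D.z V ⟶ x), ∃ (a : (Stk.sieveCat R).obj) (θ : D.z V ⟶ D.z a.obj.left),
      θ ≫ t a = s ∧ ∀ f : V ⟶ 𝒳.p.obj x, 𝒳.p.IsHomLift f s →
      ∃ u : V ⟶ a.obj.left, u ≫ a.obj.hom = f ∧ 𝒳.p.IsHomLift u θ := by
    intro V s
    obtain ⟨f, hf⟩ := exists_base D s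
    let a : (Stk.sieveCat R).obj := StackLocal.arr f ⟨s, hf⟩
    obtain ⟨θ, hθ, e⟩ := exists_factor (f := f) h𝒳 (t a) (ht a) s hf
    refine ⟨a, θ, e, fun f' hf' => ⟨𝟙 _, ?_, hθ⟩⟩
    rw [Category.id_comp]
    exact base_eq hf hf'
  choose A θ eθ lθ using @hθ
  refine ⟨{ y := g.pt, hy := g.proj, τ := fun {V} s => D.M (θ s) ≫ g.ι (A s)
            lifts := fun {V} f s hs => ?_, nat := fun {V' V} a s => ?_ }⟩
  · obtain ⟨u, rfl, hu⟩ := lθ s f hs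
    have := D.lifts _ _ hu
    have := g.lifts (A s)
    infer_instance
  · obtain ⟨f, hf⟩ := exists_base D s
    obtain ⟨u, hu, hl⟩ := lθ s f hf
    obtain ⟨f', hf'⟩ := exists_base D (a ≫ s)
    obtain ⟨u', hu', hl'⟩ := lθ (a ≫ s) f' hf'
    obtain ⟨v, hv⟩ : ∃ v : V' ⟶ V, 𝒳.p.IsHomLift v a :=
      ⟨eqToHom (D.hz V').symm ≫ 𝒳.p.map a ≫ eqToHom (D.hz V), IsHomLift.of_fac' _ _ _ (D.hz V') (D.hz V)
        (by simp)⟩
    have ef : v ≫ f = f' := base_eq (inferInstanceAs (𝒳.p.IsHomLift (v ≫ f) (a ≫ s))) hf'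
    let c : (Stk.sieveCat R).obj := StackLocal.arr f' ⟨a ≫ s, hf'⟩
    let m : c ⟶ A s := ObjectProperty.homMk (Over.homMk (v ≫ u) (by
      rw [Category.assoc, hu]; exact ef))
    let m' : c ⟶ A (a ≫ s) := ObjectProperty.homMk (Over.homMk u' hu')
    obtain ⟨θc, hθc, eθc⟩ := exists_factor (f := f') h𝒳 (t c) (ht c) (a ≫ s) hf'
    have k1 : θc ≫ k m = a ≫ θ s := by
      have : 𝒳.p.IsHomLift (v ≫ u) (k m) := hk m
      refine ext_lift h𝒳 (t (A s)) (ht (A s)) (g := v ≫ u) ?_ inferInstance ?_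
      · exact IsHomLift.comp_lift_id_left' 𝒳.p V' θc (v ≫ u) (k m)
      · rw [Category.assoc, hke, eθc, Category.assoc, eθ]
    have k2 : θc ≫ k m' = θ (a ≫ s) := by
      have : 𝒳.p.IsHomLift u' (k m') := hk m'
      refine ext_lift h𝒳 (t (A (a ≫ s))) (ht _) (g := u') ?_ hl' ?_
      · exact IsHomLift.comp_lift_id_left' 𝒳.p V' θc u' (k m')
      · rw [Category.assoc, hke, eθc, eθ]
    have w1 : D.M (k m) ≫ g.ι (A s) = g.ι c := g.w m
    have w2 : D.M (k m') ≫ g.ι (A (a ≫ s)) = g.ι c := g.w m'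
    rw [← k2, D.map_comp, Category.assoc, w2, ← w1, ← Category.assoc, ← D.map_comp, k1, D.map_comp,
      Category.assoc]

variable {D}

include h𝒴

/-- The image of a morphism is unique and exists. -/
theorem existsUnique_hom (J : GrothendieckTopology C) (hY : Stk.IsStack J 𝒴) {x' x : 𝒳.obj}
    (hl : sieve D x' (𝒳.p.obj x') ∈ J (𝒳.p.obj x')) (I' : Img D x') (I : Img D x) (b : x' ⟶ x) :
    ∃! c : I'.y ⟶ I.y, 𝒴.p.IsHomLift (𝒳.p.map b) c ∧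
      ∀ {V : C} (t : D.z V ⟶ x'), I'.τ t ≫ c = I.τ (t ≫ b) := by
  obtain ⟨hS, hG, -⟩ := (isStackFor_iff hY.1).mp (hY.2 _ hl)
  have hb : 𝒳.p.IsHomLift (𝒳.p.map b) b := IsHomLift.map 𝒳.p b
  obtain ⟨y', q, hq⟩ := exists_lift h𝒴 I.hy (𝒳.p.map b)
  have hy' : 𝒴.p.obj y' = 𝒳.p.obj x' := IsHomLift.domain_eq 𝒴.p (𝒳.p.map b) q
  have key : ∀ ⦃V : C⦄ (f : V ⟶ 𝒳.p.obj x') (hf : sieve D x' _ f) ⦃z : 𝒴.obj⦄ (ψ : z ⟶ I'.y),
      𝒴.p.IsHomLift f ψ → ∃ m : z ⟶ y', 𝒴.p.IsHomLift f m ∧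
        ∀ (t : D.z V ⟶ x'), 𝒳.p.IsHomLift f t → ∀ θ : z ⟶ D.w V, 𝒴.p.IsHomLift (𝟙 V) θ →
          θ ≫ I'.τ t = ψ → m ≫ q = θ ≫ I.τ (t ≫ b) := by
    intro V f hf z ψ hψ
    obtain ⟨t₀, ht₀⟩ := hf
    have := I'.lifts f t₀ ht₀
    obtain ⟨θ₀, hθ₀, eθ₀⟩ := exists_factor h𝒴 (I'.τ t₀) this ψ hψ
    have l1 : 𝒴.p.IsHomLift (f ≫ 𝒳.p.map b) (θ₀ ≫ I.τ (t₀ ≫ b)) := by
      have := I.lifts (f ≫ 𝒳.p.map b) (t₀ ≫ b) inferInstance
      infer_instance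
    have := cart h𝒴 q hq
    refine ⟨IsStronglyCartesian.map 𝒴.p (𝒳.p.map b) q (g := f) rfl (θ₀ ≫ I.τ (t₀ ≫ b)),
      IsStronglyCartesian.map_isHomLift _ _ _ _ _, fun t ht θ hθ eθ => ?_⟩
    rw [IsStronglyCartesian.fac]
    obtain ⟨α, hα, rfl⟩ := exists_factor h𝒳 t₀ ht₀ t ht
    have := D.lifts _ α hα
    have e : θ₀ = θ ≫ D.M α := by
      refine ext_lift h𝒴 (I'.τ t₀) (I'.lifts f t₀ ht₀) (g := 𝟙 V) hθ₀ inferInstance ?_
      rw [eθ₀, Category.assoc, ← I'.nat, eθ]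
    rw [e, Category.assoc, ← I.nat, Category.assoc]
  choose m hm hme using key
  obtain ⟨c, hc, hcf⟩ := hG I'.hy hy' m ⟨hm, fun V f hf z ψ hψ V' g z' ρ hρ hψ' => by
    have := hm f hf ψ hψ
    refine ext_lift h𝒴 q hq (g := g ≫ f) (hm _ _ _ hψ') inferInstance ?_
    obtain ⟨t, ht⟩ := hf
    obtain ⟨α, hα⟩ := D.ex g
    have := D.lifts _ α hα
    obtain ⟨θ, hθ, eθ⟩ := exists_factor h𝒴 (I'.τ t) (I'.lifts f t ht) ψ hψ
    have := cart h𝒴 (f := g) (D.M α) inferInstance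
    let θ' := IsStronglyCartesian.map 𝒴.p g (D.M α) (g := 𝟙 V') (Category.id_comp g).symm (ρ ≫ θ)
    have hθ' : 𝒴.p.IsHomLift (𝟙 V') θ' := IsStronglyCartesian.map_isHomLift _ _ _ _ _
    have eθ' : θ' ≫ D.M α = ρ ≫ θ := IsStronglyCartesian.fac _ _ _ _ _
    rw [hme (g ≫ f) _ (ρ ≫ ψ) hψ' (α ≫ t) inferInstance θ' hθ'
      (by rw [I'.nat, reassoc_of% eθ', eθ]), Category.assoc ρ]
    erw [hme f ⟨t, ht⟩ ψ hψ t ht θ hθ eθ]
    rw [Category.assoc α, I.nat, reassoc_of% eθ']⟩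
  have hτ : ∀ {V : C} (t : D.z V ⟶ x'), I'.τ t ≫ c ≫ q = I.τ (t ≫ b) := by
    intro V t
    obtain ⟨f, hf⟩ := exists_base D t
    rw [← Category.assoc, hcf f ⟨t, hf⟩ (I'.τ t) (I'.lifts f t hf),
      hme f ⟨t, hf⟩ (I'.τ t) (I'.lifts f t hf) t hf (𝟙 _) (IsHomLift.id (D.hw V)) (Category.id_comp _),
      Category.id_comp]
  refine ⟨c ≫ q, ⟨inferInstance, hτ⟩, fun c' ⟨hc', hc'τ⟩ => ?_⟩
  obtain ⟨ν, hν, rfl⟩ := exists_factor h𝒴 q hq c' hc'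
  refine congrArg (fun e => e ≫ q) (hS ν c hν hc fun V f hf z ψ hψ => ?_)
  obtain ⟨t, ht⟩ := hf
  obtain ⟨θ, hθ, rfl⟩ := exists_factor h𝒴 (I'.τ t) (I'.lifts f t ht) ψ hψ
  have := I'.lifts f t ht
  refine ext_lift h𝒴 q hq (g := f) inferInstance inferInstance ?_
  simp only [Category.assoc]
  rw [hc'τ, hτ]

omit h𝒳 h𝒴 in
/-- A map of a dense family of a category fibred in groupoids to a stack extends to a functor. -/
theorem exists_functor (J : GrothendieckTopology C) (hX : FibCat.IsFibGrpd 𝒳.p) (hY : Stk.IsStack J 𝒴)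
    (hlX : ∀ x : 𝒳.obj, sieve D x (𝒳.p.obj x) ∈ J (𝒳.p.obj x)) :
    ∃ F : 𝒳 ⥤ᵇ 𝒴, ∃ τ : ∀ V, D.w V ⟶ F.obj (D.z V),
      (∀ V, 𝒴.p.IsHomLift (𝟙 V) (τ V)) ∧
        ∀ {V' V : C} (a : D.z V' ⟶ D.z V), τ V' ≫ F.map a = D.M a ≫ τ V := by
  have h𝒴 := hY.1
  have I : ∀ x, Img D x := fun x => (exists_img D hX J hY x (hlX x)).some
  choose E hE huniq using fun {x' x : 𝒳.obj} (b : x' ⟶ x) =>
    existsUnique_hom hX h𝒴 J hY (hlX x') (I x') (I x) b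
  have huniq' : ∀ {x' x : 𝒳.obj} (b : x' ⟶ x) (c : (I x').y ⟶ (I x).y),
      𝒴.p.IsHomLift (𝒳.p.map b) c → (∀ {V : C} (t : D.z V ⟶ x'), (I x').τ t ≫ c = (I x).τ (t ≫ b)) →
      E b = c := fun b c h1 h2 => (huniq b c ⟨h1, h2⟩).symm
  let F : 𝒳 ⥤ᵇ 𝒴 :=
    { obj := fun x => (I x).y
      map := fun b => E b
      map_id := fun x => huniq' (𝟙 x) _ (by rw [𝒳.p.map_id]; exact IsHomLift.id (I x).hy) (fun t => by simp)
      map_comp := fun {a b c} f g => huniq' (f ≫ g) _ (by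
          have := (hE f).1
          have := (hE g).1
          rw [𝒳.p.map_comp]; infer_instance) (fun t => by
          rw [← Category.assoc, (hE f).2, (hE g).2, Category.assoc])
      w := CategoryTheory.Functor.ext (fun x => (I x).hy) fun a b f => by
        have := (hE f).1
        exact IsHomLift.fac' 𝒴.p (𝒳.p.map f) (E f) }
  refine ⟨F, fun V => (I (D.z V)).τ (𝟙 _), fun V => ?_, fun {V' V} a => ?_⟩
  · have := (I (D.z V)).lifts (eqToHom (D.hz V).symm) (𝟙 _) (IsHomLift.of_fac' _ _ _ (D.hz V) rfl (by simp))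
    exact IsHomLift.of_fac' _ _ _ (D.hw V) ((I (D.z V)).hy.trans (D.hz V)) (by
      rw [IsHomLift.fac' 𝒴.p (eqToHom (D.hz V).symm) ((I (D.z V)).τ (𝟙 _))]; simp)
  · refine ((hE a).2 (𝟙 _)).trans ?_
    rw [Category.id_comp, ← (I (D.z V)).nat a (𝟙 _), Category.comp_id]

end Groth.Agent.H14.BGPush.Ext
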