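import Groth.Agent.H14.BGPush.Chart

/-!
Morphisms from trivial torsors as points.
-/

set_option autoImplicit false
set_option backward.isDefEq.respectTransparency false
set_option backward.isDefEq.respectTransparency.types false

universe u

open CategoryTheory CategoryTheory.Limits MonoidalCategory CartesianMonoidalCategory MonObj AlgebraicGeometry
open Groth.Agent.Lib.QuotSt.BGMono (coef bs top_snd)
open Groth.Agent.H14.IsoNat.BGNeutral (triv)

namespace Groth.Agent.H14.BGPush

variable {S : Scheme.{u}} {H : Over S} [GrpObj H]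

/-- The point of a morphism from a trivial torsor. -/
noncomputable def pt {V : Over S} {y : (AlgSt.BG Scheme.fppfPrecoverage H).obj} (a : triv H V ⟶ y) : V ⟶ y.P :=
  Lib.QuotSt.point (aX := AlgSt.trivAction H) (x := toUnit V) a

/-- The morphism from a trivial torsor given by a point. -/
noncomputable def ofPt {V : Over S} {y : (AlgSt.BG Scheme.fppfPrecoverage H).obj} (s : V ⟶ y.P) : triv H V ⟶ y :=
  Lib.QuotSt.ofPoint (aX := AlgSt.trivAction H) (toUnit V) (s ≫ y.π) s rfl (toUnit_unique _ _)

theorem base_ofPt {V : Over S} {y : (AlgSt.BG Scheme.fppfPrecoverage H).obj} (s : V ⟶ y.P) :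
    (ofPt s).base = s ≫ y.π := rfl

theorem pt_ofPt {V : Over S} {y : (AlgSt.BG Scheme.fppfPrecoverage H).obj} (s : V ⟶ y.P) : pt (ofPt s) = s :=
  Lib.QuotSt.point_ofPoint (aX := AlgSt.trivAction H) _ _ _ _ _

theorem pt_π {V : Over S} {y : (AlgSt.BG Scheme.fppfPrecoverage H).obj} (a : triv H V ⟶ y) : pt a ≫ y.π = a.base :=
  Lib.QuotSt.point_π (aX := AlgSt.trivAction H) (x := toUnit V) a

theorem pt_ext {V : Over S} {y : (AlgSt.BG Scheme.fppfPrecoverage H).obj} {a b : triv H V ⟶ y}
    (h : pt a = pt b) : a = b :=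
  Lib.QuotSt.hom_ext_of_point (aX := AlgSt.trivAction H) (x := toUnit V) h

theorem pt_comp {V' V : Over S} {y : (AlgSt.BG Scheme.fppfPrecoverage H).obj} (m : triv H V' ⟶ triv H V)
    (a : triv H V ⟶ y) : pt (m ≫ a) = lift (coef m) (bs m ≫ pt a) ≫ y.act.act := by
  have e : lift 1 (𝟙 V') ≫ Lib.QuotSt.BGMono.tp m = lift (coef m) (bs m) := by
    apply CartesianMonoidalCategory.hom_ext
    · simp [coef]
    · rw [Category.assoc, top_snd m, lift_snd_assoc, Category.id_comp, lift_snd]
  exact QuotGood.comp_point (AlgSt.trivAction H) (y := toUnit V') (z := toUnit V) m a e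

end Groth.Agent.H14.BGPush
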