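import Groth.Agent.H14.BGPush.Main
import Groth.Agent.H14.BGPush.Point

/-!
Charts of the fibres of the functor of classifying stacks given by a homomorphism.
-/

set_option autoImplicit false
set_option backward.isDefEq.respectTransparency false
set_option backward.isDefEq.respectTransparency.types false
set_option linter.style.haveILetI false

universe u

open CategoryTheory CategoryTheory.Limits MonoidalCategory CartesianMonoidalCategory MonObj AlgebraicGeometry
open StMod (sch bmap fibCat)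
open Groth.Agent.Lib
open Groth.Agent.Lib.QuotSt.BGMono (coef bs exists_hom triv_ext coef_comp)
open Groth.Agent.H14.IsoNat.BGNeutral (triv exists_hom_triv)
open Groth.Agent.H14.GenFam

namespace Groth.Agent.H14.BGPush

variable {S : Scheme.{u}} {G H : Over S} [GrpObj G] [GrpObj H] {q : G ⟶ H} [IsMonHom q]
  {Φ : AlgSt.BG Scheme.fppfPrecoverage G ⥤ᵇ AlgSt.BG Scheme.fppfPrecoverage H}
  {τ : ∀ V, triv H V ⟶ Φ.obj (triv G V)} [∀ V, IsIso (τ V)]

variable (Φ τ) in
/-- An object over `y` given by a point of its torsor. -/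
noncomputable abbrev pnode (y : (AlgSt.BG Scheme.fppfPrecoverage H).obj) (V : Over S) (s : V ⟶ y.P) :
    (fibCat Φ y).obj :=
  CostructuredArrow.mk (CategoryTheory.inv (τ V) ≫ ofPt s)

section

variable (hnat : ∀ {V' V : Over S} (a : triv G V' ⟶ triv G V), τ V' ≫ Φ.map a = mapT q a ≫ τ V)
include hnat

theorem map_pnode {y : (AlgSt.BG Scheme.fppfPrecoverage H).obj} {V' V : Over S} (a : triv G V' ⟶ triv G V)
    (s : V ⟶ y.P) :
    τ V' ≫ Φ.map a ≫ CategoryTheory.inv (τ V) ≫ ofPt s = mapT q a ≫ ofPt s := by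
  rw [← Category.assoc, hnat, Category.assoc, IsIso.hom_inv_id_assoc]

theorem exists_pnode_hom {y : (AlgSt.BG Scheme.fppfPrecoverage H).obj} {V' V : Over S} (s' : V' ⟶ y.P)
    (s : V ⟶ y.P) (u : V' ⟶ V) (c : V' ⟶ G) (e : lift (c ≫ q) (u ≫ s) ≫ y.act.act = s') :
    ∃ k : pnode Φ τ y V' s' ⟶ pnode Φ τ y V s, bs k.left = u ∧ coef k.left = c := by
  obtain ⟨a, ha, hc⟩ := exists_hom u c
  refine ⟨CostructuredArrow.homMk a ((cancel_epi (τ V')).1 ?_), ha, hc⟩
  refine (map_pnode hnat a s).trans (Eq.trans (pt_ext ?_) (IsIso.hom_inv_id_assoc (τ V') (ofPt s')).symm)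
  rw [pt_comp, pt_ofPt, pt_ofPt, bs_mapT, coef_mapT, ha, hc, e]

theorem pnode_hom_pt {y : (AlgSt.BG Scheme.fppfPrecoverage H).obj} {V' V : Over S} {s' : V' ⟶ y.P} {s : V ⟶ y.P}
    (k : pnode Φ τ y V' s' ⟶ pnode Φ τ y V s) :
    lift (coef k.left ≫ q) (bs k.left ≫ s) ≫ y.act.act = s' := by
  have w : Φ.map (X := triv G V') (Y := triv G V) k.left ≫ CategoryTheory.inv (τ V) ≫ ofPt s =
      CategoryTheory.inv (τ V') ≫ ofPt s' := CostructuredArrow.w k
  have h := congrArg (fun r => pt (τ V' ≫ r)) w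
  simp only [map_pnode hnat, IsIso.hom_inv_id_assoc] at h
  rw [pt_comp, pt_ofPt, pt_ofPt, bs_mapT, coef_mapT] at h
  exact h

omit [IsMonHom q] hnat in
/-- An object over `y`, trivialised along its torsor. -/
theorem exists_triv_torsor {y : (AlgSt.BG Scheme.fppfPrecoverage H).obj} (o : (fibCat Φ y).obj) {V : Over S}
    (σ : V ⟶ o.left.P) : ∃ (s : V ⟶ y.P) (k : pnode Φ τ y V s ⟶ o), k.left.base = σ ≫ o.left.π := by
  obtain ⟨t, ht⟩ := exists_hom_triv G o.left σ
  refine ⟨pt (τ V ≫ Φ.map t ≫ o.hom), CostructuredArrow.homMk t ((cancel_epi (τ V)).1 ?_),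
    Lib.QuotSt.base_of_isHomLift t ht⟩
  refine Eq.trans ?_ (IsIso.hom_inv_id_assoc (τ V) (ofPt _)).symm
  exact pt_ext (pt_ofPt _).symm

variable [IsAffineHom G.hom] [IsAffineHom H.hom] [Flat G.hom] [Flat H.hom]

/-- A chart of the fibre over an affine object. -/
theorem exists_fibre_chart (y : (AlgSt.BG Scheme.fppfPrecoverage H).obj)
    (hy : IsAffine (sch (AlgSt.BG Scheme.fppfPrecoverage H) y)) : Nonempty (Chart (fibCat Φ y)) := by
  have hK : (Scheme.fppfPrecoverage : Precoverage Scheme.{u}) ≤ Scheme.fpqcPrecoverage :=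
    Scheme.fppfPrecoverage_le_fpqcPrecoverage
  haveI : IsAffine y.base.left := hy
  haveI : IsAffineHom y.π.left := QuotSt.property_π hK y (inferInstance : IsAffineHom H.hom)
  haveI : IsAffine y.P.left := isAffine_of_isAffineHom y.π.left
  haveI : IsAffine (G ⊗ y.P).left := QuotGood.isAffine_tensor
  let sW : G ⊗ y.P ⟶ y.P := lift (fst G y.P ≫ q) (snd G y.P) ≫ y.act.act
  obtain ⟨p, hp₁, hp₂⟩ := exists_pnode_hom hnat (y := y) sW (𝟙 y.P) (snd G y.P) (fst G y.P)
    (by rw [Category.comp_id])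
  obtain ⟨r, hr₁, hr₂⟩ := exists_pnode_hom hnat (y := y) sW (𝟙 y.P) sW (1 : G ⊗ y.P ⟶ G)
    (by rw [Category.comp_id, MonObj.one_comp, Lib.QuotSt.Act.one_smul])
  refine ⟨{
    x := pnode Φ τ y y.P (𝟙 _)
    w := pnode Φ τ y (G ⊗ y.P) sW
    affx := show IsAffine y.P.left from inferInstance
    affw := show IsAffine (G ⊗ y.P).left from inferInstance
    p := p
    q := r
    cover := fun o ho => ?_
    overlap := fun o ho a b => ?_ }⟩
  · haveI : IsAffine o.left.base.left := ho
    have : IsAffineHom o.left.π.left := QuotSt.property_π hK o.left (inferInstance : IsAffineHom G.hom)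
    have hP : IsAffine o.left.P.left := isAffine_of_isAffineHom o.left.π.left
    have hf : Flat o.left.π.left := QuotSt.property_π hK o.left (inferInstance : Flat G.hom)
    have hs : Surjective o.left.π.left := Lib.QuotSt.surjective_π hK o.left
    obtain ⟨s, k, hk⟩ := exists_triv_torsor (τ := τ) o (𝟙 o.left.P)
    rw [Category.id_comp] at hk
    let D : Cover (𝒳 := fibCat Φ y) o (Fin 1) :=
      { E := fun _ => pnode Φ τ y o.left.P s
        aff := fun _ => hP
        e := fun _ => k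
        flat := fun _ => by show Flat k.left.base.left; rw [hk]; exact hf
        surj := fun z => ⟨0, by show z ∈ Set.range k.left.base.left; rw [hk]; exact hs.surj z⟩ }
    obtain ⟨c, -, -⟩ := exists_pnode_hom hnat (y := y) s (𝟙 y.P) s (1 : o.left.P ⟶ G)
      (by rw [Category.comp_id, MonObj.one_comp, Lib.QuotSt.Act.one_smul])
    exact ⟨1, D, fun _ => ⟨c⟩⟩
  · haveI : IsAffine o.left.base.left := ho
    let σ : o.left.base ⟶ o.left.P := a.left.cart.lift (lift 1 a.left.base) (𝟙 _) (by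
      change lift 1 a.left.base ≫ snd G y.P = _
      rw [lift_snd, Category.id_comp])
    have hσ : σ ≫ o.left.π = 𝟙 _ := a.left.cart.lift_snd _ _ _
    obtain ⟨s, k, hk⟩ := exists_triv_torsor (τ := τ) o σ
    rw [hσ] at hk
    let D : Cover (𝒳 := fibCat Φ y) o PUnit.{u + 1} :=
      { E := fun _ => pnode Φ τ y o.left.base s
        aff := fun _ => ho
        e := fun _ => k
        flat := fun _ => by show Flat k.left.base.left; rw [hk]; exact (inferInstance : Flat (𝟙 o.left.base.left))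
        surj := fun z => ⟨⟨⟩, z, by show k.left.base.left z = z; rw [hk]; rfl⟩ }
    let ua := bs (k ≫ a).left
    let ub := bs (k ≫ b).left
    let ca := coef (k ≫ a).left
    let cb := coef (k ≫ b).left
    have ha : lift (ca ≫ q) ua ≫ y.act.act = s :=
      (congrArg (fun r => lift (ca ≫ q) r ≫ y.act.act) (Category.comp_id ua)).symm.trans (pnode_hom_pt hnat (k ≫ a))
    have hb : lift (cb ≫ q) ub ≫ y.act.act = s :=
      (congrArg (fun r => lift (cb ≫ q) r ≫ y.act.act) (Category.comp_id ub)).symm.trans (pnode_hom_pt hnat (k ≫ b))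
    have hw : lift (cb⁻¹ * ca) ua ≫ sW = lift ((cb ≫ q)⁻¹ * (ca ≫ q)) ua ≫ y.act.act := by
      show lift _ _ ≫ lift _ _ ≫ y.act.act = _
      rw [← Category.assoc, comp_lift, lift_snd, lift_fst_assoc, MonObj.mul_comp, GrpObj.inv_comp]
    have hub : lift (cb⁻¹ * ca) ua ≫ sW = ub := by
      rw [hw, Lib.QuotSt.Act.mul_smul, ha, ← hb, ← Lib.QuotSt.Act.mul_smul, inv_mul_cancel,
        Lib.QuotSt.Act.one_smul]
    obtain ⟨c, hc₁, hc₂⟩ := exists_pnode_hom hnat (y := y) s sW (lift (cb⁻¹ * ca) ua) cb (by rw [hub, hb])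
    refine ⟨PUnit, inferInstance, D, fun _ => ⟨c, CostructuredArrow.hom_ext _ _ (triv_ext ?_ ?_),
      CostructuredArrow.hom_ext _ _ (triv_ext ?_ ?_)⟩⟩
    · show bs c.left ≫ bs p.left = ua
      rw [hc₁, hp₁, lift_snd]
    · show coef (c.left ≫ p.left) = ca
      rw [coef_comp, hc₂, hc₁, hp₂, lift_fst, mul_inv_cancel_left]
    · show bs c.left ≫ bs r.left = ub
      rw [hc₁, hr₁, hub]
    · show coef (c.left ≫ r.left) = cb
      rw [coef_comp, hc₂, hr₂, MonObj.comp_one, _root_.mul_one]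

/-- The chart of the fibre over a trivial torsor given by the kernel. -/
theorem exists_kernel_chart {G' : Over S} [GrpObj G'] [IsAffineHom G'.hom] (ic : G' ⟶ G) [IsMonHom ic]
    [Flat q.left] [Surjective q.left]
    (hker : IsPullback ic (toUnit G') q (MonObj.one : 𝟙_ (Over S) ⟶ H)) (V : Over S) [IsAffine V.left] :
    ∃ C : Chart (fibCat Φ (triv H V)), ∃ (hx : C.x = pnode Φ τ (triv H V) V (lift 1 (𝟙 V))),
      ∃ (hw : C.w = pnode Φ τ (triv H V) (G' ⊗ V) (lift 1 (snd G' V))),
      bs (eqToHom hw.symm ≫ C.p ≫ eqToHom hx).left = snd G' V ∧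
      coef (eqToHom hw.symm ≫ C.p ≫ eqToHom hx).left = fst G' V ≫ ic ∧
      bs (eqToHom hw.symm ≫ C.q ≫ eqToHom hx).left = snd G' V ∧
      coef (eqToHom hw.symm ≫ C.q ≫ eqToHom hx).left = 1 := by
  have hK : (Scheme.fppfPrecoverage : Precoverage Scheme.{u}) ≤ Scheme.fpqcPrecoverage :=
    Scheme.fppfPrecoverage_le_fpqcPrecoverage
  have hicq : ic ≫ q = 1 := hker.w
  haveI : IsAffine (G' ⊗ V).left := QuotGood.isAffine_tensor
  have hact : ∀ {T : Over S} (g : T ⟶ H) (u : T ⟶ V) (h : T ⟶ H),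
      lift g (lift h u) ≫ (AlgSt.leftMul H V).act = lift (g * h) u := fun g u h => Lib.QuotSt.lift_leftMul g h u
  obtain ⟨p, hp₁, hp₂⟩ := exists_pnode_hom hnat (y := triv H V) (lift 1 (snd G' V)) (lift 1 (𝟙 V)) (snd G' V)
    (fst G' V ≫ ic) (by
      show lift _ (snd G' V ≫ lift 1 (𝟙 V)) ≫ (AlgSt.leftMul H V).act = _
      rw [comp_lift, MonObj.comp_one, Category.comp_id, hact, Category.assoc, hicq, MonObj.comp_one,
        _root_.mul_one])
  obtain ⟨r, hr₁, hr₂⟩ := exists_pnode_hom hnat (y := triv H V) (lift 1 (snd G' V)) (lift 1 (𝟙 V)) (snd G' V)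
    (1 : G' ⊗ V ⟶ G) (by
      show lift _ (snd G' V ≫ lift 1 (𝟙 V)) ≫ (AlgSt.leftMul H V).act = _
      rw [comp_lift, MonObj.comp_one, Category.comp_id, hact, MonObj.one_comp, _root_.mul_one])
  refine ⟨{
    x := pnode Φ τ (triv H V) V (lift 1 (𝟙 V))
    w := pnode Φ τ (triv H V) (G' ⊗ V) (lift 1 (snd G' V))
    affx := show IsAffine V.left from inferInstance
    affw := show IsAffine (G' ⊗ V).left from inferInstance
    p := p
    q := r
    cover := fun o ho => ?_
    overlap := fun o ho a b => ?_ }, rfl, rfl, ?_, ?_, ?_, ?_⟩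
  · haveI : IsAffine o.left.base.left := ho
    have : IsAffineHom o.left.π.left := QuotSt.property_π hK o.left (inferInstance : IsAffineHom G.hom)
    have hP : IsAffine o.left.P.left := isAffine_of_isAffineHom o.left.π.left
    have hf : Flat o.left.π.left := QuotSt.property_π hK o.left (inferInstance : Flat G.hom)
    have hs : Surjective o.left.π.left := Lib.QuotSt.surjective_π hK o.left
    obtain ⟨s₀, k, hk⟩ := exists_triv_torsor (τ := τ) o (𝟙 o.left.P)
    rw [Category.id_comp] at hk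
    let s : o.left.P ⟶ H ⊗ V := s₀
    let j : o.left.P ⟶ H ⊗ o.left.P := lift (s ≫ fst H V) (𝟙 _)
    let W := Limits.pullback (q ▷ o.left.P) j
    let π₁ : W ⟶ G ⊗ o.left.P := Limits.pullback.fst _ _
    let π₂ : W ⟶ o.left.P := Limits.pullback.snd _ _
    have hW := (IsPullback.of_hasPullback (q ▷ o.left.P) j).map (Over.forget S)
    have hq := (isPullback_whiskerRight q o.left.P).map (Over.forget S)
    haveI : IsAffine (G ⊗ o.left.P).left := QuotGood.isAffine_tensor
    haveI : IsAffine (H ⊗ o.left.P).left := QuotGood.isAffine_tensor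
    haveI : IsAffineHom (q ▷ o.left.P).left := inferInstance
    have hWa : IsAffineHom π₂.left :=
      MorphismProperty.of_isPullback (P := @IsAffineHom) hW (inferInstance : IsAffineHom (q ▷ o.left.P).left)
    have hWf : Flat π₂.left := MorphismProperty.of_isPullback (P := @Flat) hW
      (MorphismProperty.of_isPullback (P := @Flat) hq.flip ‹Flat q.left›)
    have hWs : Surjective π₂.left := MorphismProperty.of_isPullback (P := @Surjective) hW
      (MorphismProperty.of_isPullback (P := @Surjective) hq.flip ‹Surjective q.left›)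
    haveI : IsAffine W.left := isAffine_of_isAffineHom π₂.left
    let g : W ⟶ G := π₁ ≫ fst G o.left.P
    have hg : g ≫ q = π₂ ≫ s ≫ fst H V := by
      have h := congrArg (fun t => t ≫ fst H o.left.P) (Limits.pullback.condition (f := q ▷ o.left.P) (g := j))
      simpa [g, j, π₁, π₂] using h
    obtain ⟨k₁, hk₁, -⟩ := exists_pnode_hom hnat (y := triv H V) (π₂ ≫ s) s π₂ (1 : W ⟶ G)
      (by rw [MonObj.one_comp, Lib.QuotSt.Act.one_smul])
    let D : Cover (𝒳 := fibCat Φ (triv H V)) o (Fin 1) :=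
      { E := fun _ => pnode Φ τ (triv H V) W (π₂ ≫ s)
        aff := fun _ => show IsAffine W.left from inferInstance
        e := fun _ => k₁ ≫ k
        flat := fun _ => by
          show Flat ((bs k₁.left).left ≫ k.left.base.left)
          rw [hk₁, hk]
          exact MorphismProperty.comp_mem _ _ _ hWf hf
        surj := fun z => ⟨0, by
          show z ∈ Set.range ((bs k₁.left).left ≫ k.left.base.left)
          rw [hk₁, hk]
          exact (MorphismProperty.comp_mem (@Surjective) _ _ hWs hs).surj z⟩ }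
    obtain ⟨c, -, -⟩ := exists_pnode_hom hnat (y := triv H V) (π₂ ≫ s) (lift 1 (𝟙 V)) (π₂ ≫ s ≫ snd H V) g (by
      show lift _ ((π₂ ≫ s ≫ snd H V) ≫ lift 1 (𝟙 V)) ≫ (AlgSt.leftMul H V).act = _
      rw [comp_lift, MonObj.comp_one, Category.comp_id, hact, _root_.mul_one, hg]
      apply CartesianMonoidalCategory.hom_ext <;> simp)
    exact ⟨1, D, fun _ => ⟨c⟩⟩
  · haveI : IsAffine o.left.base.left := ho
    let σ : o.left.base ⟶ o.left.P := a.left.cart.lift (lift 1 a.left.base) (𝟙 _) (by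
      change lift 1 a.left.base ≫ snd G V = _
      rw [lift_snd, Category.id_comp])
    have hσ : σ ≫ o.left.π = 𝟙 _ := a.left.cart.lift_snd _ _ _
    obtain ⟨s, k, hk⟩ := exists_triv_torsor (τ := τ) o σ
    rw [hσ] at hk
    let D : Cover (𝒳 := fibCat Φ (triv H V)) o PUnit.{u + 1} :=
      { E := fun _ => pnode Φ τ (triv H V) o.left.base s
        aff := fun _ => ho
        e := fun _ => k
        flat := fun _ => by show Flat k.left.base.left; rw [hk]; exact (inferInstance : Flat (𝟙 o.left.base.left))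
        surj := fun z => ⟨⟨⟩, z, by show k.left.base.left z = z; rw [hk]; rfl⟩ }
    let ua := bs (k ≫ a).left
    let ub := bs (k ≫ b).left
    let ca := coef (k ≫ a).left
    let cb := coef (k ≫ b).left
    have ha : lift (ca ≫ q) ua = s := by
      refine Eq.trans ?_ (pnode_hom_pt hnat (k ≫ a))
      show _ = lift (ca ≫ q) (ua ≫ lift 1 (𝟙 V)) ≫ (AlgSt.leftMul H V).act
      rw [comp_lift, MonObj.comp_one, Category.comp_id, hact, _root_.mul_one]
    have hb : lift (cb ≫ q) ub = s := by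
      refine Eq.trans ?_ (pnode_hom_pt hnat (k ≫ b))
      show _ = lift (cb ≫ q) (ub ≫ lift 1 (𝟙 V)) ≫ (AlgSt.leftMul H V).act
      rw [comp_lift, MonObj.comp_one, Category.comp_id, hact, _root_.mul_one]
    have hu : ua = ub := by simpa using congrArg (fun t => t ≫ snd H V) (ha.trans hb.symm)
    have hc : ca ≫ q = cb ≫ q := by simpa using congrArg (fun t => t ≫ fst H V) (ha.trans hb.symm)
    let g' : o.left.base ⟶ G' := hker.lift (cb⁻¹ * ca) (toUnit _) (by
      rw [MonObj.mul_comp, GrpObj.inv_comp, hc, inv_mul_cancel]; rfl)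
    have hg' : g' ≫ ic = cb⁻¹ * ca := hker.lift_fst _ _ _
    obtain ⟨c, hc₁, hc₂⟩ := exists_pnode_hom hnat (y := triv H V) s (lift 1 (snd G' V)) (lift g' ua) cb (by
      show lift _ (lift g' ua ≫ lift 1 (snd G' V)) ≫ (AlgSt.leftMul H V).act = _
      rw [comp_lift, MonObj.comp_one, lift_snd, hact, _root_.mul_one, hu, hb])
    refine ⟨PUnit, inferInstance, D, fun _ => ⟨c, CostructuredArrow.hom_ext _ _ (triv_ext ?_ ?_),
      CostructuredArrow.hom_ext _ _ (triv_ext ?_ ?_)⟩⟩
    · show bs c.left ≫ bs p.left = ua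
      rw [hc₁, hp₁, lift_snd]
    · show coef (c.left ≫ p.left) = ca
      rw [coef_comp, hc₂, hc₁, hp₂, lift_fst_assoc, hg', mul_inv_cancel_left]
    · show bs c.left ≫ bs r.left = ub
      rw [hc₁, hr₁, lift_snd, hu]
    · show coef (c.left ≫ r.left) = cb
      rw [coef_comp, hc₂, hr₂, MonObj.comp_one, _root_.mul_one]
  all_goals simpa

end

end Groth.Agent.H14.BGPush
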