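import Groth.Agent.H14.BGPush.Point
import Groth.Agent.H14.MultiExt.Chart

/-!
A chart with several components of a classifying stack, given by a cover of the base.
-/

set_option autoImplicit false
set_option backward.isDefEq.respectTransparency false
set_option backward.isDefEq.respectTransparency.types false
set_option linter.style.haveILetI false

universe u

open CategoryTheory CategoryTheory.Limits MonoidalCategory CartesianMonoidalCategory MonObj AlgebraicGeometry
open StMod (sch bmap)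
open Groth.Agent.Lib
open Groth.Agent.Lib.QuotSt.BGMono (coef bs exists_hom triv_ext coef_comp)
open Groth.Agent.H14.IsoNat.BGNeutral (triv exists_hom_triv)
open Groth.Agent.H14.GenFam (Cover)
open Groth.Agent.H14.MultiExt (MChart)

namespace Groth.Agent.H14.BGPush

variable {S : Scheme.{u}}

/-- An open of a scheme over the base, over the base. -/
noncomputable abbrev opOver (X : Over S) (V : X.left.Opens) : Over S := Over.mk (V.ι ≫ X.hom)

/-- The inclusion. -/
noncomputable abbrev opIncl (X : Over S) (V : X.left.Opens) : opOver X V ⟶ X := Over.homMk V.ι rfl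

theorem exists_opLift {X Y : Over S} (f : Y ⟶ X) (V : X.left.Opens) (h : Set.range f.left ⊆ V) :
    ∃ g : Y ⟶ opOver X V, g ≫ opIncl X V = f := by
  have h' : Set.range f.left ⊆ Set.range V.ι := by rwa [Scheme.Opens.range_ι]
  refine ⟨Over.homMk (IsOpenImmersion.lift V.ι f.left h') ?_, ?_⟩
  · show IsOpenImmersion.lift V.ι f.left h' ≫ V.ι ≫ X.hom = Y.hom
    rw [← Category.assoc, IsOpenImmersion.lift_fac, Over.w]
  · ext1
    exact IsOpenImmersion.lift_fac _ _ _

theorem opIncl_cancel {X Y : Over S} {V : X.left.Opens} {f g : Y ⟶ opOver X V}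
    (h : f ≫ opIncl X V = g ≫ opIncl X V) : f = g := by
  ext1
  exact (cancel_mono V.ι).1 (congrArg CommaMorphism.left h)

/-- An affine scheme has a finite cover by affine opens inside the members of an open cover. -/
theorem exists_finite_affine (Y : Scheme.{u}) [IsAffine Y] {A : Type u} (O : A → Y.Opens) (hO : ∀ y, ∃ a, y ∈ O a) :
    ∃ (n : ℕ) (D : Fin n → Y.Opens), (∀ l, IsAffineOpen (D l)) ∧ (∀ y, ∃ l, y ∈ D l) ∧
      ∀ l, ∃ a, D l ≤ O a := by
  classical
  have h : ∀ y : Y, ∃ V : Y.Opens, IsAffineOpen V ∧ y ∈ V ∧ ∃ a, V ≤ O a := fun y => by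
    obtain ⟨a, ha⟩ := hO y
    obtain ⟨V, hV, hy, hle⟩ := exists_isAffineOpen_mem_and_subset (X := Y) (x := y) (U := O a) ha
    exact ⟨V, hV, hy, a, hle⟩
  choose V hV hy hle using h
  obtain ⟨t, ht⟩ := (isCompact_univ (X := Y)).elim_finite_subcover (fun y => (V y : Set Y)) (fun y => (V y).2)
    (fun y _ => Set.mem_iUnion.2 ⟨y, hy y⟩)
  let e := t.equivFin
  refine ⟨t.card, fun l => V (e.symm l).1, fun l => hV _, fun y => ?_, fun l => hle _⟩
  obtain ⟨z, hz, hyz⟩ := Set.mem_iUnion₂.1 (ht (Set.mem_univ y))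
  exact ⟨e ⟨z, hz⟩, by simpa using hyz⟩

variable {H : Over S} [GrpObj H] [IsAffineHom H.hom] [Flat H.hom]

/-- The chart given by a family of affine schemes over the base, flat over it and containing an open cover. -/
theorem exists_mchart {I : Type u} (B : I → Over S) (haff : ∀ i, IsAffine (B i).left) (hfl : ∀ i, Flat (B i).hom)
    (hcov : ∀ s : S, ∃ (i : I) (V : S.Opens), s ∈ V ∧ ∃ j : opOver (Over.mk (𝟙 S)) V ⟶ B i, True) :
    ∃ C : MChart (AlgSt.BG Scheme.fppfPrecoverage H), ∃ e : C.I ≃ I, ∀ i, C.x i = triv H (B (e i)) := by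
  have hK : (Scheme.fppfPrecoverage : Precoverage Scheme.{u}) ≤ Scheme.fpqcPrecoverage :=
    Scheme.fppfPrecoverage_le_fpqcPrecoverage
  haveI := haff
  let R : I → I → Type u := fun i j => (B i ⊗ B j).left.affineOpens
  let W : ∀ {i j}, R i j → Over S := fun {i j} r => H ⊗ opOver (B i ⊗ B j) r.1
  have hW : ∀ {i j} (r : R i j), IsAffine (W r).left := fun {i j} r => by
    haveI : IsAffine (opOver (B i ⊗ B j) r.1).left := r.2
    exact QuotGood.isAffine_tensor
  let bp : ∀ {i j} (r : R i j), W r ⟶ B i := fun {i j} r => snd H _ ≫ opIncl _ r.1 ≫ fst (B i) (B j)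
  let bq : ∀ {i j} (r : R i j), W r ⟶ B j := fun {i j} r => snd H _ ≫ opIncl _ r.1 ≫ snd (B i) (B j)
  choose P hP₁ hP₂ using fun (i j : I) (r : R i j) => exists_hom (G := H) (bp r) (fst H (opOver (B i ⊗ B j) r.1))
  choose Q hQ₁ hQ₂ using fun (i j : I) (r : R i j) => exists_hom (G := H) (bq r) (1 : W r ⟶ H)
  have hflp : ∀ (i j : I) (r : R i j), Flat (bp r).left := fun i j r => by
    haveI : Flat (snd H (opOver (B i ⊗ B j) r.1)).left :=
      show Flat (pullback.snd H.hom (opOver (B i ⊗ B j) r.1).hom) from inferInstance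
    haveI : Flat (fst (B i) (B j)).left := by
      haveI := hfl j
      exact show Flat (pullback.fst (B i).hom (B j).hom) from inferInstance
    haveI : Flat (opIncl (B i ⊗ B j) r.1).left := show Flat r.1.ι from inferInstance
    show Flat ((snd H _).left ≫ (opIncl _ r.1).left ≫ (fst (B i) (B j)).left)
    infer_instance
  refine ⟨{
    I := I
    x := fun i => triv H (B i)
    affx := fun i => haff i
    R := R
    w := fun r => triv H (W r)
    affw := fun r => hW r
    p := fun {i j} r => P i j r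
    q := fun {i j} r => Q i j r
    flat := fun {i j} r => by
      show Flat (bs (P i j r)).left
      rw [hP₁]
      exact hflp i j r
    cover := fun o ho => ?_
    overlap := fun o ho {i j} a b => ?_
    overlap2 := fun o ho {i j r r'} a b e₁ e₂ => ?_ }, Equiv.refl I, fun i => rfl⟩
  · haveI : IsAffine o.base.left := ho
    haveI : IsAffineHom o.π.left := QuotSt.property_π hK o (inferInstance : IsAffineHom H.hom)
    haveI : IsAffine o.P.left := isAffine_of_isAffineHom o.π.left
    have hf : Flat o.π.left := QuotSt.property_π hK o (inferInstance : Flat H.hom)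
    have hs : Surjective o.π.left := Lib.QuotSt.surjective_π hK o
    choose i V hV j _ using hcov
    obtain ⟨n, D, hDa, hDc, hDle⟩ := exists_finite_affine o.P.left (fun s : S => o.P.hom ⁻¹ᵁ V s)
      (fun y => ⟨o.P.hom y, hV _⟩)
    choose t ht using fun l => exists_hom_triv H o (opIncl o.P (D l))
    have htb : ∀ l, (t l).base = opIncl o.P (D l) ≫ o.π := fun l => Lib.QuotSt.base_of_isHomLift _ (ht l)
    let C : Cover (𝒳 := AlgSt.BG Scheme.fppfPrecoverage H) o (Fin n) :=
      { E := fun l => triv H (opOver o.P (D l))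
        aff := fun l => hDa l
        e := t
        flat := fun l => by
          show Flat (t l).base.left
          rw [htb]
          exact MorphismProperty.comp_mem _ _ _ (inferInstanceAs (Flat (D l).ι)) hf
        surj := fun z => by
          obtain ⟨y, hy⟩ := hs.surj z
          obtain ⟨l, hl⟩ := hDc y
          refine ⟨l, ⟨y, hl⟩, ?_⟩
          show (t l).base.left ⟨y, hl⟩ = z
          rw [htb]
          exact hy }
    refine ⟨n, C, fun l => ?_⟩
    obtain ⟨s, hs'⟩ := hDle l
    obtain ⟨g, -⟩ := exists_opLift (X := Over.mk (𝟙 S))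
      (Over.homMk (U := opOver o.P (D l)) (V := Over.mk (𝟙 S)) (opOver o.P (D l)).hom (Category.comp_id _)) (V s) (by
        rintro _ ⟨y, rfl⟩
        exact hs' y.2)
    exact ⟨i s, ⟨(exists_hom (g ≫ j s) (1 : opOver o.P (D l) ⟶ H)).choose⟩⟩
  · haveI : IsAffine o.base.left := ho
    let σ : o.base ⟶ o.P := a.cart.lift (lift 1 a.base) (𝟙 _) (by
      change lift 1 a.base ≫ snd H (B i) = _
      rw [lift_snd, Category.id_comp])
    have hσ : σ ≫ o.π = 𝟙 _ := a.cart.lift_snd _ _ _
    obtain ⟨k, hk⟩ := exists_hom_triv H o σ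
    have hkb : k.base = 𝟙 _ := (Lib.QuotSt.base_of_isHomLift k hk).trans hσ
    let ca := coef (k ≫ a)
    let cb := coef (k ≫ b)
    let v : o.base ⟶ B i ⊗ B j := lift (bs (k ≫ a)) (bs (k ≫ b))
    obtain ⟨n, D, hDa, hDc, hDle⟩ := exists_finite_affine o.base.left
      (fun r : R i j => v.left ⁻¹ᵁ r.1) (fun y => by
        obtain ⟨V, hV, hy, -⟩ := exists_isAffineOpen_mem_and_subset (X := (B i ⊗ B j).left)
          (x := v.left y) (U := ⊤) trivial
        exact ⟨⟨V, hV⟩, hy⟩)
    choose m hm₁ hm₂ using fun l => exists_hom (G := H) (opIncl o.base (D l)) (1 : opOver o.base (D l) ⟶ H)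
    have hmk : ∀ l, (m l ≫ k).base = opIncl o.base (D l) := fun l => by
      show bs (m l) ≫ k.base = _
      rw [hm₁, hkb]
      exact Category.comp_id _
    let C : Cover (𝒳 := AlgSt.BG Scheme.fppfPrecoverage H) o (ULift.{u} (Fin n)) :=
      { E := fun l => triv H (opOver o.base (D l.down))
        aff := fun l => hDa l.down
        e := fun l => m l.down ≫ k
        flat := fun l => by
          show Flat (m l.down ≫ k).base.left
          rw [hmk]
          exact inferInstanceAs (Flat (D l.down).ι)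
        surj := fun z => by
          obtain ⟨l, hl⟩ := hDc z
          refine ⟨⟨l⟩, ⟨z, hl⟩, ?_⟩
          show (m l ≫ k).base.left ⟨z, hl⟩ = z
          rw [hmk]
          rfl }
    refine ⟨ULift.{u} (Fin n), inferInstance, C, fun l => ?_⟩
    obtain ⟨r, hr⟩ := hDle l.down
    let ι' := opIncl o.base (D l.down)
    obtain ⟨g, hg⟩ := exists_opLift (ι' ≫ v) r.1 (by
      rintro _ ⟨y, rfl⟩
      exact hr y.2)
    obtain ⟨c, hc₁, hc₂⟩ := exists_hom (G := H) (lift ((ι' ≫ cb)⁻¹ * (ι' ≫ ca)) g) (ι' ≫ cb)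
    refine ⟨r, c, triv_ext ?_ ?_, triv_ext ?_ ?_⟩
    · show bs c ≫ bs (P i j r) = bs ((m l.down ≫ k) ≫ a)
      rw [hc₁, hP₁]
      show _ ≫ snd H _ ≫ _ = (m l.down ≫ k).base ≫ a.base
      rw [lift_snd_assoc, reassoc_of% hg]
      show ι' ≫ lift (bs (k ≫ a)) (bs (k ≫ b)) ≫ fst _ _ = _
      rw [lift_fst, hmk]
      show ι' ≫ k.base ≫ a.base = ι' ≫ a.base
      rw [hkb]
      exact congrArg (ι' ≫ ·) (Category.id_comp _)
    · rw [coef_comp, hc₂, hc₁, hP₂, lift_fst, mul_inv_cancel_left]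
      show ι' ≫ coef (k ≫ a) = coef ((m l.down ≫ k) ≫ a)
      rw [Category.assoc]
      exact (by rw [coef_comp (m l.down) (k ≫ a), hm₁, hm₂, _root_.one_mul] :
        coef (m l.down ≫ k ≫ a) = ι' ≫ coef (k ≫ a)).symm
    · show bs c ≫ bs (Q i j r) = bs ((m l.down ≫ k) ≫ b)
      rw [hc₁, hQ₁]
      show _ ≫ snd H _ ≫ _ = (m l.down ≫ k).base ≫ b.base
      rw [lift_snd_assoc, reassoc_of% hg]
      show ι' ≫ lift (bs (k ≫ a)) (bs (k ≫ b)) ≫ snd _ _ = _
      rw [lift_snd, hmk]
      show ι' ≫ k.base ≫ b.base = ι' ≫ b.base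
      rw [hkb]
      exact congrArg (ι' ≫ ·) (Category.id_comp _)
    · rw [coef_comp, hc₂, hQ₂, MonObj.comp_one, _root_.mul_one]
      show ι' ≫ coef (k ≫ b) = coef ((m l.down ≫ k) ≫ b)
      rw [Category.assoc]
      exact (by rw [coef_comp (m l.down) (k ≫ b), hm₁, hm₂, _root_.one_mul] :
        coef (m l.down ≫ k ≫ b) = ι' ≫ coef (k ≫ b)).symm
  · haveI : IsAffine o.base.left := ho
    let σ : o.base ⟶ o.P := a.cart.lift (lift 1 a.base) (𝟙 _) (by
      change lift 1 a.base ≫ snd H (W r) = _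
      rw [lift_snd, Category.id_comp])
    have hσ : σ ≫ o.π = 𝟙 _ := a.cart.lift_snd _ _ _
    obtain ⟨k, hk⟩ := exists_hom_triv H o σ
    have hkb : k.base = 𝟙 _ := (Lib.QuotSt.base_of_isHomLift k hk).trans hσ
    let ua : o.base ⟶ W r := bs (k ≫ a)
    let ub : o.base ⟶ W r' := bs (k ≫ b)
    let ca := coef (k ≫ a)
    let cb := coef (k ≫ b)
    have f₁ : (k ≫ a) ≫ P i j r = (k ≫ b) ≫ P i j r' := by
      rw [Category.assoc, Category.assoc]
      exact congrArg (k ≫ ·) e₁
    have f₂ : (k ≫ a) ≫ Q i j r = (k ≫ b) ≫ Q i j r' := by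
      rw [Category.assoc, Category.assoc]
      exact congrArg (k ≫ ·) e₂
    have hc : ca = cb := by
      have h := congrArg coef f₂
      rw [coef_comp, coef_comp, hQ₂, hQ₂, MonObj.comp_one, MonObj.comp_one, _root_.mul_one, _root_.mul_one] at h
      exact h
    have hgg : ua ≫ fst H _ = ub ≫ fst H _ := by
      have h := congrArg coef f₁
      rw [coef_comp, coef_comp, hP₂, hP₂] at h
      change ca * _ = cb * _ at h
      rw [hc] at h
      exact mul_left_cancel h
    have hv : ua ≫ snd H _ ≫ opIncl _ r.1 = ub ≫ snd H _ ≫ opIncl _ r'.1 := by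
      have h1 : bs (k ≫ a) ≫ bs (P i j r) = bs (k ≫ b) ≫ bs (P i j r') := congrArg bs f₁
      have h2 : bs (k ≫ a) ≫ bs (Q i j r) = bs (k ≫ b) ≫ bs (Q i j r') := congrArg bs f₂
      rw [hP₁, hP₁] at h1
      rw [hQ₁, hQ₁] at h2
      apply CartesianMonoidalCategory.hom_ext
      · simpa only [Category.assoc] using h1
      · simpa only [Category.assoc] using h2
    let v := ua ≫ snd H _ ≫ opIncl _ r.1
    let A := {t : (B i ⊗ B j).left.affineOpens // t.1 ≤ r.1 ∧ t.1 ≤ r'.1}
    obtain ⟨n, D, hDa, hDc, hDle⟩ := exists_finite_affine o.base.left (fun t : A => v.left ⁻¹ᵁ t.1.1) (fun y => by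
      have hr : v.left y ∈ r.1 := ((ua ≫ snd H _).left y).2
      have hr' : v.left y ∈ r'.1 := by
        show (ua ≫ snd H _ ≫ opIncl _ r.1).left y ∈ r'.1
        rw [hv]
        exact ((ub ≫ snd H _).left y).2
      obtain ⟨V, hV, hy, hle⟩ := exists_isAffineOpen_mem_and_subset (X := (B i ⊗ B j).left)
        (x := v.left y) (U := r.1 ⊓ r'.1) ⟨hr, hr'⟩
      exact ⟨⟨⟨V, hV⟩, fun z hz => (hle hz).1, fun z hz => (hle hz).2⟩, hy⟩)
    choose m hm₁ hm₂ using fun l => exists_hom (G := H) (opIncl o.base (D l)) (1 : opOver o.base (D l) ⟶ H)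
    have hmk : ∀ l, (m l ≫ k).base = opIncl o.base (D l) := fun l => by
      show bs (m l) ≫ k.base = _
      rw [hm₁, hkb]
      exact Category.comp_id _
    let C : Cover (𝒳 := AlgSt.BG Scheme.fppfPrecoverage H) o (ULift.{u} (Fin n)) :=
      { E := fun l => triv H (opOver o.base (D l.down))
        aff := fun l => hDa l.down
        e := fun l => m l.down ≫ k
        flat := fun l => by
          show Flat (m l.down ≫ k).base.left
          rw [hmk]
          exact inferInstanceAs (Flat (D l.down).ι)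
        surj := fun z => by
          obtain ⟨l, hl⟩ := hDc z
          refine ⟨⟨l⟩, ⟨z, hl⟩, ?_⟩
          show (m l ≫ k).base.left ⟨z, hl⟩ = z
          rw [hmk]
          rfl }
    refine ⟨ULift.{u} (Fin n), C, fun l => ?_⟩
    obtain ⟨⟨⟨t, hta⟩, htr, htr'⟩, hlt⟩ := hDle l.down
    let ι' := opIncl o.base (D l.down)
    obtain ⟨g, hg⟩ := exists_opLift (ι' ≫ v) t (by
      rintro _ ⟨y, rfl⟩
      exact hlt y.2)
    obtain ⟨j₁, hj₁⟩ := exists_opLift (opIncl (B i ⊗ B j) t) r.1 (by rintro _ ⟨y, rfl⟩; exact htr y.2)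
    obtain ⟨j₂, hj₂⟩ := exists_opLift (opIncl (B i ⊗ B j) t) r'.1 (by rintro _ ⟨y, rfl⟩; exact htr' y.2)
    let T := H ⊗ opOver (B i ⊗ B j) t
    haveI : IsAffine (opOver (B i ⊗ B j) t).left := hta
    haveI : IsAffine T.left := QuotGood.isAffine_tensor
    obtain ⟨k₁, hk₁, hk₁'⟩ := exists_hom (G := H) (H ◁ j₁) (1 : T ⟶ H)
    obtain ⟨k₂, hk₂, hk₂'⟩ := exists_hom (G := H) (H ◁ j₂) (1 : T ⟶ H)
    obtain ⟨c, hc₁, hc₂⟩ := exists_hom (G := H) (lift (ι' ≫ ua ≫ fst H _) g) (ι' ≫ ca)
    refine ⟨triv H T, ‹IsAffine T.left›, k₁, k₂, triv_ext ?_ ?_, triv_ext ?_ ?_, ?_, c, triv_ext ?_ ?_, triv_ext ?_ ?_⟩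
    · show bs k₁ ≫ bs (P i j r) = bs k₂ ≫ bs (P i j r')
      rw [hk₁, hk₂, hP₁, hP₁]
      simp [bp, reassoc_of% hj₁, reassoc_of% hj₂]
    · rw [coef_comp, coef_comp, hk₁', hk₂', hk₁, hk₂, hP₂, hP₂]
      simp
    · show bs k₁ ≫ bs (Q i j r) = bs k₂ ≫ bs (Q i j r')
      rw [hk₁, hk₂, hQ₁, hQ₁]
      simp [bq, reassoc_of% hj₁, reassoc_of% hj₂]
    · rw [coef_comp, coef_comp, hk₁', hk₂', hk₁, hk₂, hQ₂, hQ₂]
      simp
    · show Flat (bs k₁ ≫ bs (P i j r)).left
      rw [hk₁, hP₁]
      have e : (H ◁ j₁) ≫ bp r = bp (⟨t, hta⟩ : R i j) := by simp [bp, reassoc_of% hj₁]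
      rw [e]
      exact hflp i j ⟨t, hta⟩
    · show bs c ≫ bs k₁ = (m l.down ≫ k).base ≫ a.base
      rw [hmk, hc₁, hk₁, lift_whiskerLeft]
      have e : ι' ≫ a.base = ι' ≫ ua := by
        show _ = ι' ≫ k.base ≫ a.base
        rw [hkb]
        exact congrArg (ι' ≫ ·) (Category.id_comp _).symm
      rw [e]
      apply CartesianMonoidalCategory.hom_ext
      · rw [lift_fst, Category.assoc]
      · rw [lift_snd, Category.assoc]
        refine opIncl_cancel ?_
        rw [Category.assoc, hj₁, hg, Category.assoc, Category.assoc]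
    · rw [coef_comp, hk₁', hc₂, MonObj.comp_one, _root_.mul_one, Category.assoc, coef_comp (m l.down) (k ≫ a), hm₁,
        hm₂, _root_.one_mul]
    · show bs c ≫ bs k₂ = (m l.down ≫ k).base ≫ b.base
      rw [hmk, hc₁, hk₂, lift_whiskerLeft]
      have e : ι' ≫ b.base = ι' ≫ ub := by
        show _ = ι' ≫ k.base ≫ b.base
        rw [hkb]
        exact congrArg (ι' ≫ ·) (Category.id_comp _).symm
      rw [e]
      apply CartesianMonoidalCategory.hom_ext
      · rw [lift_fst, hgg, Category.assoc]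
      · rw [lift_snd, Category.assoc]
        refine opIncl_cancel ?_
        rw [Category.assoc, hj₂, hg, Category.assoc, Category.assoc]
        exact congrArg (ι' ≫ ·) hv
    · rw [coef_comp, hk₂', hc₂, MonObj.comp_one, _root_.mul_one, Category.assoc, coef_comp (m l.down) (k ≫ b), hm₁,
        hm₂, _root_.one_mul]
      exact congrArg (ι' ≫ ·) hc

end Groth.Agent.H14.BGPush
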