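import Groth.Agent.H14.BGPush.ExtChart
import Groth.Agent.H14.BGPush.MChart
import Groth.Agent.H14.GenFam.PushGen
import Groth.Agent.H14.GenFam.PushApp
import Groth.Agent.H14.MultiExt.ExtMap
import Groth.Agent.H14.QuotHopf.Surj

/-!
Cohomological affineness of classifying stacks passes to extensions of groups.
-/

set_option autoImplicit false
set_option backward.isDefEq.respectTransparency false
set_option backward.isDefEq.respectTransparency.types false
set_option linter.style.haveILetI false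

universe u

open CategoryTheory CategoryTheory.Limits MonoidalCategory CartesianMonoidalCategory MonObj AlgebraicGeometry
open StMod (sch bmap fibCat fibFst baseOver etaOf)
open Groth.Agent.Lib
open Groth.Agent.Lib.QuotSt.BGMono (coef bs exists_hom triv_ext coef_comp coef_id)
open Groth.Agent.H14.IsoNat.BGNeutral (triv)
open Groth.Agent.H14.ModDesc (castTop castTop_bijective mapTop_comap castTop_castHom)
open Groth.Agent.H14.GenFam
open Groth.Agent.H14.MultiExt (MChart FlatHom exists_extMap bijective_phiA)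
open Groth.Agent.H14.CohDesc (relSect_mapTop mapTop_fib)

namespace Groth.Agent.H14.BGPush

variable {S : Scheme.{u}} {G H : Over S} [GrpObj G] [GrpObj H] {q : G ⟶ H} [IsMonHom q]
  {Φ : AlgSt.BG Scheme.fppfPrecoverage G ⥤ᵇ AlgSt.BG Scheme.fppfPrecoverage H}
  {τ : ∀ V, triv H V ⟶ Φ.obj (triv G V)} [∀ V, IsIso (τ V)]
  [IsAffineHom G.hom] [IsAffineHom H.hom] [Flat G.hom] [Flat H.hom] [Flat q.left] [Surjective q.left]

/-- The natural maps of pushforward families induced by a morphism. -/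
noncomputable def postFlat {E F F' : StMod.QCoh (AlgSt.BG Scheme.fppfPrecoverage G)} (D : FibData Φ E)
    (u : F ⟶ F') : FlatHom (homFlat D F) (homFlat D F') where
  app o _ := D.post u o
  natural := fun {o' o} _ _ e s => D.val_injective ((D.val_post u o' _).trans
    ((congrArg (homPost u o') (D.val_res e s)).trans ((homRes_homPost u e _).symm.trans
      ((congrArg (homRes e) (D.val_post u o s).symm).trans (D.val_res e _).symm))))

variable (hnat : ∀ {V' V : Over S} (a : triv G V' ⟶ triv G V), τ V' ≫ Φ.map a = mapT q a ≫ τ V)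
include hnat

set_option maxHeartbeats 1600000 in
/-- Over an affine etale scheme the families of morphisms lift along surjections if the kernel is linearly
reductive. -/
theorem post_surjective {K : Over S} [GrpObj K] [IsAffineHom K.hom] [Flat K.hom] (inj : K ⟶ G) [IsMonHom inj]
    (hker : IsPullback inj (toUnit K) q (MonObj.one : 𝟙_ (Over S) ⟶ H))
    (σ' : AlgSt.BG Scheme.fppfPrecoverage K ⥤ᵇ AlgSt.ofSch (Over.mk (𝟙 S))) (h' : StMod.IsCohAffine σ')
    (D : FibData Φ (StMod.OQ (AlgSt.BG Scheme.fppfPrecoverage G)))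
    {F M : StMod.QCoh (AlgSt.BG Scheme.fppfPrecoverage G)} (u : F ⟶ M) (hu : StMod.Mod.IsSurj u.hom)
    (V : Over S) [IsAffine V.left] [Etale V.hom] :
    letI : IsAffine (sch (AlgSt.BG Scheme.fppfPrecoverage H) (triv H V)) := ‹IsAffine V.left›
    Function.Surjective (D.post u (triv H V)) := by
  letI : IsAffine (sch (AlgSt.BG Scheme.fppfPrecoverage H) (triv H V)) := ‹IsAffine V.left›
  have hG : FibCat.IsFibGrpd (AlgSt.BG Scheme.fppfPrecoverage G).p := Lib.QuotSt.isFibGrpd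
  have hK : FibCat.IsFibGrpd (AlgSt.BG Scheme.fppfPrecoverage K).p := Lib.QuotSt.isFibGrpd
  obtain ⟨Ψ, ρ, hρ, hρnat⟩ := exists_functor inj
  haveI : ∀ W, IsIso (ρ W) := fun W => Lib.Fibred.StackLemmas.isIso_of_vertical hG (ρ W) (hρ W)
  obtain ⟨trF, trFb, trFn, trFe⟩ := exists_transfer inj Ψ ρ hρnat F
  obtain ⟨trM, trMb, trMn, trMe⟩ := exists_transfer inj Ψ ρ hρnat M
  obtain ⟨C, hCx, hCw, hp₁, hp₂, hq₁, hq₂⟩ := exists_kernel_chart hnat inj hker V
  let E : AlgSp.EtOver ((AlgSp.yon S).obj (Over.mk (𝟙 S))) :=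
    AlgSp.EtOver.mk ((AlgSp.yon S).map (Over.homMk V.hom : V ⟶ Over.mk (𝟙 S)))
      ((AlgSp.repWith_yon_map_iff _ _).2 ‹Etale V.hom›)
  let θ : (AlgSt.ofSch (Over.mk (𝟙 S))).obj := etaOf E
  haveI : IsAffine θ.base.left := ‹IsAffine V.left›
  obtain ⟨C', hC'x, hC'w, hp₁', hp₂', hq₁', hq₂'⟩ := exists_chart σ' θ
  obtain ⟨Cx, Cw, Caffx, Caffw, Cp, Cq, Ccov, Cov⟩ := C
  obtain ⟨C'x, C'w, C'affx, C'affw, C'p, C'q, C'cov, C'ov⟩ := C'
  dsimp only at hCx hCw hC'x hC'w
  subst hCx hCw hC'x hC'w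
  simp only [eqToHom_refl, Category.id_comp, Category.comp_id] at hp₁ hp₂ hq₁ hq₂ hp₁' hp₂' hq₁' hq₂'
  let C₁ : Chart (fibCat Φ (triv H V)) := ⟨_, _, Caffx, Caffw, Cp, Cq, Ccov, Cov⟩
  let C₂ : Chart (fibCat σ' θ) := ⟨_, _, C'affx, C'affw, C'p, C'q, C'cov, C'ov⟩
  intro y
  -- the value of the family at the chart
  let l : AObj Φ (triv H V) := ⟨C₁.x.left, C₁.x.hom, C₁.affx⟩
  let lw : AObj Φ (triv H V) := ⟨C₁.w.left, C₁.w.hom, C₁.affw⟩
  let z : Γ(M.obj.obj (triv G V), ⊤) := (D.val y).1 l (oneO _ l.ξ)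
  have hz : M.obj.mapTop Cp.left z = M.obj.mapTop Cq.left z := by
    refine ((D.val y).2 (l' := lw) (l := l) Cp.left (CostructuredArrow.w Cp) _).trans
      (Eq.trans ?_ ((D.val y).2 (l' := lw) (l := l) Cq.left (CostructuredArrow.w Cq) _).symm)
    exact congrArg _ ((oneO_mapTop Cp.left).trans (oneO_mapTop Cq.left).symm)
  have eP : mapT inj C'p.left = Cp.left := triv_ext (by rw [bs_mapT, hp₁', hp₁]; rfl) (by
    rw [coef_mapT, hp₂', hp₂]; rfl)
  have eQ : mapT inj C'q.left = Cq.left := triv_ext (by rw [bs_mapT, hq₁', hq₁]; rfl) (by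
    rw [coef_mapT, hq₂', hq₂, MonObj.one_comp])
  obtain ⟨t, ht⟩ := QuotGood.exists_relSect_of_inv hK ((StMod.comapQ Ψ).obj M) C₂ (trM V z) (by
    show ((StMod.comapQ Ψ).obj M).obj.mapTop C'p.left _ = ((StMod.comapQ Ψ).obj M).obj.mapTop C'q.left _
    refine (trMn C'p.left z).trans (Eq.trans ?_ (trMn C'q.left z).symm)
    exact congrArg (trM _) ((congrArg (fun a => M.obj.mapTop a z) eP).trans
      (hz.trans (congrArg (fun a => M.obj.mapTop a z) eQ).symm)))
  obtain ⟨s, hs⟩ := h' ((StMod.comapQ Ψ).map u) (CohBC.isSurj_comap Ψ u hu) E ‹IsAffine V.left› t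
  obtain ⟨v, hv⟩ := (trFb V).surjective (s.1 C₂.x.left C₂.x.hom)
  have hvi : F.obj.mapTop Cp.left v = F.obj.mapTop Cq.left v := by
    refine (trFb _).injective ?_
    rw [← eP, ← eQ]
    refine (trFn C'p.left v).symm.trans (Eq.trans ?_ (trFn C'q.left v))
    refine (congrArg (fun x => ((StMod.comapQ Ψ).obj F).obj.mapTop C'p.left x) hv).trans
      (Eq.trans ?_ (congrArg (fun x => ((StMod.comapQ Ψ).obj F).obj.mapTop C'q.left x) hv).symm)
    exact (relSect_mapTop s C₂.p).trans (relSect_mapTop s C₂.q).symm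
  have huv : (u.hom.app (triv G V)).app ⊤ v = z := by
    refine (trMb V).injective ?_
    refine Eq.trans ?_ ((congrArg (fun r : ((StMod.comapQ Ψ).obj M).obj.RelSect σ' θ =>
      r.1 C₂.x.left C₂.x.hom) hs).trans ht)
    show _ = (((StMod.comapQ Ψ).map u).hom.app (triv K V)).app ⊤ (s.1 C₂.x.left C₂.x.hom)
    rw [trMe]
    refine Eq.trans ?_ (congrArg (fun x => (((StMod.comapQ Ψ).map u).hom.app (triv K V)).app ⊤ x) hv)
    rw [trFe]
    refine Eq.trans (congrArg (castTop _ _) (StMod.Mod.mapTop_app u.hom (CategoryTheory.inv (ρ V)) v)) ?_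
    exact (castTop_castHom _ _ _).symm
  obtain ⟨r, hr⟩ := QuotGood.exists_relSect_of_inv hG F C₁ v hvi
  let fam : homFam Φ (StMod.OQ (AlgSt.BG Scheme.fppfPrecoverage G)) F (triv H V) :=
    ⟨fun l =>
      { toFun := fun c => (show Γ(sch _ l.ξ, ⊤) from c) • r.1 l.ξ l.α
        map_add' := fun a b => add_smul _ _ _
        map_smul' := fun a b => mul_smul _ _ _ },
      fun l' l φ h c => by
        show F.obj.mapTop φ ((show Γ(sch _ l.ξ, ⊤) from c) • r.1 l.ξ l.α) =
          (show Γ(sch _ l'.ξ, ⊤) from (StMod.O _).mapTop φ c) • r.1 l'.ξ l'.α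
        rw [StMod.Mod.mapTop_smul, StMod.O_mapTop, r.2 φ l.α, h]⟩
  refine ⟨(D.shr F (triv H V)).symm fam, D.val_injective ?_⟩
  refine (D.val_post u _ _).trans ?_
  obtain ⟨ψ, hψ⟩ := exists_ofHom hG (D.val y)
  refine Subtype.ext ?_
  have key : evGen (⟨1, fun _ => oneO _ C₁.x.left, Submodule.eq_top_iff'.2 fun c => by
      rw [← smul_oneO c]
      exact Submodule.smul_mem _ _ (Submodule.subset_span ⟨0, rfl⟩)⟩ : Pres C₁ (StMod.OQ (AlgSt.BG Scheme.fppfPrecoverage G)))
      (homPost u (triv H V) (D.val ((D.shr F (triv H V)).symm fam))) =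
    evGen _ (D.val y) := funext fun _ => by
      have e : D.val ((D.shr F (triv H V)).symm fam) = fam := (D.shr F (triv H V)).apply_symm_apply _
      rw [e]
      show (u.hom.app (triv G V)).app ⊤ ((1 : Γ(sch (AlgSt.BG Scheme.fppfPrecoverage G) (triv G V), ⊤)) •
        r.1 C₁.x.left C₁.x.hom) = z
      rw [one_smul]
      exact (congrArg ((u.hom.app (triv G V)).app ⊤) hr).trans huv
  exact congrArg Subtype.val (evGen_injective hG _ key)

variable (hτ : ∀ V, (AlgSt.BG Scheme.fppfPrecoverage H).p.IsHomLift (𝟙 V) (τ V))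
include hτ

omit hnat in
theorem baseOver_inv (V : Over S) : baseOver Φ (triv G V) (CategoryTheory.inv (τ V)) = 𝟙 V := by
  have := hτ V
  have h := IsHomLift.fac' (AlgSt.BG Scheme.fppfPrecoverage H).p (𝟙 V) (τ V)
  show eqToHom _ ≫ (AlgSt.BG Scheme.fppfPrecoverage H).p.map (CategoryTheory.inv (τ V)) = _
  rw [Functor.map_inv, IsIso.comp_inv_eq, h]
  simp
  exact (Category.id_comp _).symm

set_option maxHeartbeats 1600000 in
/-- If the classifying stacks of a normal subgroup and of the quotient are cohomologically affine, so is that of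
the group. -/
theorem isCohAffine_of_extension {K : Over S} [GrpObj K] [IsAffineHom K.hom] [Flat K.hom] (inj : K ⟶ G)
    [IsMonHom inj] (hker : IsPullback inj (toUnit K) q (MonObj.one : 𝟙_ (Over S) ⟶ H))
    (σ' : AlgSt.BG Scheme.fppfPrecoverage K ⥤ᵇ AlgSt.ofSch (Over.mk (𝟙 S)))
    (σ : AlgSt.BG Scheme.fppfPrecoverage G ⥤ᵇ AlgSt.ofSch (Over.mk (𝟙 S)))
    (σ'' : AlgSt.BG Scheme.fppfPrecoverage H ⥤ᵇ AlgSt.ofSch (Over.mk (𝟙 S)))
    (h' : StMod.IsCohAffine σ') (h'' : StMod.IsCohAffine σ'') : StMod.IsCohAffine σ := by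
  have hG : FibCat.IsFibGrpd (AlgSt.BG Scheme.fppfPrecoverage G).p := Lib.QuotSt.isFibGrpd
  have hH : FibCat.IsFibGrpd (AlgSt.BG Scheme.fppfPrecoverage H).p := Lib.QuotSt.isFibGrpd
  let D : FibData Φ (StMod.OQ (AlgSt.BG Scheme.fppfPrecoverage G)) :=
    ⟨hG, hH, exists_fibre_chart hnat, fun x _ => fp_OQ x⟩
  intro F M u hu E hE
  let θ : (AlgSt.ofSch (Over.mk (𝟙 S))).obj := etaOf E
  haveI : IsAffine θ.base.left := hE
  haveI : IsAffine (sch (AlgSt.ofSch (Over.mk (𝟙 S))) θ) := hE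
  haveI : IsAffine (sch (AlgSt.ofSp ((AlgSp.ofScheme S).obj (Over.mk (𝟙 S))).obj) (etaOf E)) := hE
  haveI hUet : Etale θ.base.hom := by
    obtain ⟨g, hg⟩ := (AlgSp.yon S).map_surjective E.obj.hom
    have h1 : Etale g.left := (AlgSp.repWith_yon_map_iff _ _).1 (by rw [hg]; exact E.property)
    have h2 : g.left = θ.base.hom := (Category.comp_id _).symm.trans (Over.w g)
    exact h2 ▸ h1
  let B : Option S.affineOpens → Over S := fun i => i.elim θ.base fun V => opOver (Over.mk (𝟙 S)) V.1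
  have hBa : ∀ i, IsAffine (B i).left := fun i => by
    cases i with
    | none => exact hE
    | some V => exact V.2
  have hBe : ∀ i, Etale (B i).hom := fun i => by
    cases i with
    | none => exact hUet
    | some V =>
      show Etale (V.1.ι ≫ 𝟙 S)
      rw [Category.comp_id]
      infer_instance
  obtain ⟨C, e, hx⟩ := exists_mchart (H := H) B hBa (fun i => by have := hBe i; infer_instance) fun s => by
    obtain ⟨V, hV, hs, -⟩ := exists_isAffineOpen_mem_and_subset (X := S) (x := s) (U := ⊤) trivial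
    exact ⟨some ⟨V, hV⟩, V, hs, 𝟙 _, trivial⟩
  obtain ⟨v, hv, hvs⟩ := exists_extMap (C := C) (postFlat D u) hH
  have hsurj := hvs fun i => by
    haveI : IsAffine (B (e i)).left := hBa _
    haveI : Etale (B (e i)).hom := hBe _
    have key := post_surjective hnat inj hker σ' h' D u hu (B (e i))
    have : ∀ (o : (AlgSt.BG Scheme.fppfPrecoverage H).obj) (ho : IsAffine (sch _ o)), o = triv H (B (e i)) →
        Function.Surjective (D.post u o) := by
      rintro o ho rfl
      exact key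
    exact this _ (C.affx i) (hx i)
  let i₀ := e.symm none
  have hi₀ : C.x i₀ = triv H θ.base := by rw [hx, Equiv.apply_symm_apply]; rfl
  let a₀ : triv H θ.base ⟶ C.x i₀ := eqToHom hi₀.symm
  have ha₀ : ∀ (o : (AlgSt.BG Scheme.fppfPrecoverage H).obj) (h : triv H θ.base = o), Flat (bmap _ (eqToHom h)) := by
    rintro o rfl
    rw [eqToHom_refl, StMod.bmap_id]
    infer_instance
  -- charts
  obtain ⟨C₁, hC₁x, hC₁w, hp₁, hp₂, hq₁, hq₂⟩ := exists_chart σ θ
  obtain ⟨C₂, hC₂x, hC₂w, hp₁'', hp₂'', hq₁'', hq₂''⟩ := exists_chart σ'' θ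
  obtain ⟨C₁x, C₁w, C₁affx, C₁affw, C₁p, C₁q, C₁cov, C₁ov⟩ := C₁
  obtain ⟨C₂x, C₂w, C₂affx, C₂affw, C₂p, C₂q, C₂cov, C₂ov⟩ := C₂
  dsimp only at hC₁x hC₁w hC₂x hC₂w
  subst hC₁x hC₁w hC₂x hC₂w
  simp only [eqToHom_refl, Category.id_comp, Category.comp_id] at hp₁ hp₂ hq₁ hq₂ hp₁'' hp₂'' hq₁'' hq₂''
  let K₁ : Chart (fibCat σ θ) := ⟨_, _, C₁affx, C₁affw, C₁p, C₁q, C₁cov, C₁ov⟩
  let K₂ : Chart (fibCat σ'' θ) := ⟨_, _, C₂affx, C₂affw, C₂p, C₂q, C₂cov, C₂ov⟩
  haveI : Flat (bmap (AlgSt.ofSch (Over.mk (𝟙 S))) (𝟙 θ)) := by rw [StMod.bmap_id]; infer_instance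
  refine QuotGood.relSectMap_surjective
    (Lib.AlgStack.IsAlg.isAlgStack_ofSp ((AlgSp.ofScheme _).obj (Over.mk (𝟙 S)))).isStack.1 u K₁ (𝟙 θ) hG
    fun z hz => ?_
  obtain ⟨t, ht⟩ := QuotGood.exists_relSect_of_inv hG M K₁ z hz
  haveI : IsAffine (sch (AlgSt.BG Scheme.fppfPrecoverage H) (triv H θ.base)) := hE
  haveI : IsAffine (H ⊗ θ.base).left := QuotGood.isAffine_tensor
  haveI : IsAffine (sch (AlgSt.BG Scheme.fppfPrecoverage H) (triv H (H ⊗ θ.base))) :=
    show IsAffine (H ⊗ θ.base).left from inferInstance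
  haveI : IsAffine (sch (AlgSt.BG Scheme.fppfPrecoverage H) (node σ'' θ (H ⊗ θ.base) (snd H θ.base)).left) :=
    show IsAffine (H ⊗ θ.base).left from inferInstance
  haveI : IsAffine (sch (AlgSt.BG Scheme.fppfPrecoverage H) (node σ'' θ θ.base (𝟙 θ.base)).left) := hE
  let aw : triv H (H ⊗ θ.base) ⟶ C.x i₀ := C₂p.left ≫ a₀
  have haw : Flat (bmap _ aw) := by
    show Flat (bmap _ (C₂p.left ≫ a₀))
    rw [StMod.bmap_comp]
    haveI : Flat (bmap (AlgSt.BG Scheme.fppfPrecoverage H) C₂p.left) := by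
      show Flat (bs C₂p.left).left
      rw [hp₁'']
      exact show Flat (pullback.snd H.hom θ.base.hom) from inferInstance
    haveI := ha₀ _ hi₀.symm
    infer_instance
  -- the family of the section
  let fam : homFam Φ (StMod.OQ (AlgSt.BG Scheme.fppfPrecoverage G)) M (triv H θ.base) :=
    ⟨fun l =>
      { toFun := fun c => (show Γ(sch _ l.ξ, ⊤) from c) • t.1 l.ξ (arr σ θ l.ξ (baseOver Φ l.ξ l.α))
        map_add' := fun a b => add_smul _ _ _
        map_smul' := fun a b => mul_smul _ _ _ },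
      fun l' l φ h c => by
        show M.obj.mapTop φ ((show Γ(sch _ l.ξ, ⊤) from c) • t.1 l.ξ _) =
          (show Γ(sch _ l'.ξ, ⊤) from (StMod.O _).mapTop φ c) • t.1 l'.ξ _
        rw [StMod.Mod.mapTop_smul, StMod.O_mapTop, t.2 φ]
        refine congrArg (_ • ·) (congrArg (t.1 l'.ξ) (w_arr σ θ φ _ _ ?_))
        rw [baseOver_arr, ← h]
        exact StMod.map_comp_baseOver Φ φ l.α⟩
  let PF := MultiExt.extQ (C := C) (homFlat D F) hH
  let PM := MultiExt.extQ (C := C) (homFlat D M) hH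
  obtain ⟨g, hg⟩ := (bijective_phiA (Φ := homFlat D M) hH a₀ (ha₀ _ hi₀.symm)).surjective ((D.shr M _).symm fam)
  have hgi : PM.obj.mapTop C₂p.left g = PM.obj.mapTop C₂q.left g := by
    refine (bijective_phiA (Φ := homFlat D M) hH aw haw).injective ?_
    refine (MultiExt.phiA_natural (homFlat D M) hH C₂p.left aw a₀ g).trans
      (Eq.trans ?_ (MultiExt.phiA_natural (homFlat D M) hH C₂q.left aw a₀ g).symm)
    refine (congrArg ((homFlat D M).res C₂p.left) hg).trans
      (Eq.trans ?_ (congrArg ((homFlat D M).res C₂q.left) hg).symm)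
    have e1 : D.val ((D.shr M (triv H θ.base)).symm fam) = fam := (D.shr M _).apply_symm_apply _
    let cp : triv H (H ⊗ θ.base) ⟶ triv H θ.base := C₂p.left
    let cq : triv H (H ⊗ θ.base) ⟶ triv H θ.base := C₂q.left
    have key : homRes cp fam = homRes cq fam := Subtype.ext (funext fun l => LinearMap.ext fun c => by
      show (show Γ(sch _ l.ξ, ⊤) from c) • t.1 l.ξ (arr σ θ l.ξ (baseOver Φ l.ξ (l.α ≫ cp))) =
        (show Γ(sch _ l.ξ, ⊤) from c) • t.1 l.ξ (arr σ θ l.ξ (baseOver Φ l.ξ (l.α ≫ cq)))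
      refine congrArg (_ • ·) (congrArg (t.1 l.ξ) (congrArg (arr σ θ l.ξ) ?_))
      rw [StMod.baseOver_comp, StMod.baseOver_comp]
      exact congrArg (baseOver Φ l.ξ l.α ≫ ·) ((hp₁''.trans hq₁''.symm : bs C₂p.left = bs C₂q.left)))
    refine D.val_injective ?_
    exact (D.val_res cp _).trans ((congrArg (homRes cp) e1).trans (key.trans
      ((congrArg (homRes cq) e1).symm.trans (D.val_res cq _).symm)))
  obtain ⟨t'', ht''⟩ := QuotGood.exists_relSect_of_inv hH PM K₂ g hgi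
  obtain ⟨s, hs⟩ := h'' v hsurj E hE t''
  let gF : Γ(PF.obj.obj (triv H θ.base), ⊤) := s.1 K₂.x.left K₂.x.hom
  have hgF : (v.hom.app (triv H θ.base)).app ⊤ gF = g :=
    (congrArg (fun r : PM.obj.RelSect σ'' θ => r.1 K₂.x.left K₂.x.hom) hs).trans ht''
  let famF := D.val (MultiExt.phiA (homFlat D F) hH (triv H θ.base) a₀ gF)
  have hfam : homPost u (triv H θ.base) famF = fam := by
    refine (D.val_post u _ _).symm.trans ?_
    refine (congrArg D.val ((hv (triv H θ.base) a₀ gF).symm.trans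
      ((congrArg (MultiExt.phiA (homFlat D M) hH (triv H θ.base) a₀) hgF).trans hg))).trans ?_
    exact (D.shr M _).apply_symm_apply _
  -- evaluation
  let P : triv H θ.base ⟶ triv H θ.base := 𝟙 _
  haveI : IsAffine (G ⊗ θ.base).left := QuotGood.isAffine_tensor
  let l : AObj Φ (triv H θ.base) := ⟨triv G θ.base, CategoryTheory.inv (τ θ.base), hE⟩
  refine ⟨famF.1 l (oneO _ l.ξ), ?_, ?_⟩
  · obtain ⟨k, hk₁, hk₂⟩ := exists_hom (G := H) (q ▷ θ.base) (1 : G ⊗ θ.base ⟶ H)
    have eP : mapT q C₁p.left = k ≫ C₂p.left := triv_ext (by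
        show bs (mapT q C₁p.left) = bs k ≫ bs C₂p.left
        rw [bs_mapT, hp₁, hk₁, hp₁'']; simp) (by
        rw [coef_mapT, coef_comp, hp₂, hk₁, hk₂, hp₂'', _root_.one_mul]; simp)
    have eQ : mapT q C₁q.left = k ≫ C₂q.left := triv_ext (by
        show bs (mapT q C₁q.left) = bs k ≫ bs C₂q.left
        rw [bs_mapT, hq₁, hk₁, hq₁'']; simp) (by
        rw [coef_mapT, coef_comp, hq₂, hk₁, hk₂, hq₂'', _root_.one_mul, MonObj.comp_one, MonObj.one_comp])
    let lw : AObj Φ (triv H (H ⊗ θ.base)) :=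
      ⟨triv G (G ⊗ θ.base), CategoryTheory.inv (τ (G ⊗ θ.base)) ≫ k, show IsAffine (G ⊗ θ.base).left from inferInstance⟩
    have wP : Φ.map C₁p.left ≫ CategoryTheory.inv (τ θ.base) = (lw.map C₂p.left).α := by
      refine (cancel_epi (τ (G ⊗ θ.base))).1 ?_
      show _ = τ _ ≫ (CategoryTheory.inv (τ (G ⊗ θ.base)) ≫ k) ≫ C₂p.left
      rw [← Category.assoc, hnat, Category.assoc, IsIso.hom_inv_id, Category.comp_id, eP, Category.assoc,
        IsIso.hom_inv_id_assoc]
    have wQ : Φ.map C₁q.left ≫ CategoryTheory.inv (τ θ.base) = (lw.map C₂q.left).α := by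
      refine (cancel_epi (τ (G ⊗ θ.base))).1 ?_
      show _ = τ _ ≫ (CategoryTheory.inv (τ (G ⊗ θ.base)) ≫ k) ≫ C₂q.left
      rw [← Category.assoc, hnat, Category.assoc, IsIso.hom_inv_id, Category.comp_id, eQ, Category.assoc,
        IsIso.hom_inv_id_assoc]
    refine (famF.2 (l' := lw.map C₂p.left) (l := l) C₁p.left wP _).trans
      (Eq.trans ?_ (famF.2 (l' := lw.map C₂q.left) (l := l) C₁q.left wQ _).symm)
    rw [oneO_mapTop, oneO_mapTop]
    have inv : homRes C₂p.left famF = homRes C₂q.left famF := by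
      show homRes C₂p.left (D.val _) = homRes C₂q.left (D.val _)
      rw [← D.val_res, ← D.val_res]
      refine congrArg D.val ?_
      refine (MultiExt.phiA_natural (homFlat D F) hH C₂p.left aw a₀ gF).symm.trans
        (Eq.trans ?_ (MultiExt.phiA_natural (homFlat D F) hH C₂q.left aw a₀ gF))
      exact congrArg (MultiExt.phiA (homFlat D F) hH _ aw) ((relSect_mapTop s K₂.p).trans (relSect_mapTop s K₂.q).symm)
    exact congrArg (fun r : homFam Φ _ F (triv H (H ⊗ θ.base)) => r.1 lw (oneO _ lw.ξ)) inv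
  · refine Eq.trans (congrArg (fun r : homFam Φ _ M (triv H θ.base) => r.1 l (oneO _ l.ξ)) hfam) ?_
    show (1 : Γ(sch (AlgSt.BG Scheme.fppfPrecoverage G) (triv G θ.base), ⊤)) •
      t.1 (triv G θ.base) (arr σ θ (triv G θ.base) (baseOver Φ (triv G θ.base) (CategoryTheory.inv (τ θ.base)))) = z
    rw [one_smul]
    refine Eq.trans (congrArg (t.1 (triv G θ.base)) (congrArg (arr σ θ (triv G θ.base)) ?_)) ht
    exact baseOver_inv hτ θ.base

end Groth.Agent.H14.BGPush
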