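import Groth.Agent.H14.BGPush.Ext
import Groth.Agent.Lib.QuotSt.BGMono
import Groth.Agent.Lib.QuotSt.Stack

/-!
The functor of classifying stacks given by a homomorphism of affine groups.
-/

set_option autoImplicit false
set_option backward.isDefEq.respectTransparency false
set_option backward.isDefEq.respectTransparency.types false

universe u

open CategoryTheory CategoryTheory.Limits MonoidalCategory CartesianMonoidalCategory MonObj AlgebraicGeometry Opposite
open Groth.Agent.Lib.QuotSt.BGMono (coef bs exists_hom triv_ext coef_id coef_comp)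
open Groth.Agent.H14.IsoNat.BGNeutral (triv)

namespace Groth.Agent.H14.BGPush

variable {S : Scheme.{u}} {G H : Over S} [GrpObj G] [GrpObj H] (q : G ⟶ H) [IsMonHom q]

/-- The image of a morphism of trivial torsors. -/
noncomputable def mapT {V' V : Over S} (a : triv G V' ⟶ triv G V) : triv H V' ⟶ triv H V :=
  (exists_hom (bs a) (coef a ≫ q)).choose

omit [IsMonHom q] in
theorem bs_mapT {V' V : Over S} (a : triv G V' ⟶ triv G V) : bs (mapT q a) = bs a :=
  (exists_hom (bs a) (coef a ≫ q)).choose_spec.1

omit [IsMonHom q] in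
theorem coef_mapT {V' V : Over S} (a : triv G V' ⟶ triv G V) : coef (mapT q a) = coef a ≫ q :=
  (exists_hom (bs a) (coef a ≫ q)).choose_spec.2

/-- The map of the families of trivial torsors. -/
noncomputable def data : Ext.Data (AlgSt.BG Scheme.fppfPrecoverage G) (AlgSt.BG Scheme.fppfPrecoverage H) where
  z V := triv G V
  w V := triv H V
  hz _ := rfl
  hw _ := rfl
  ex u := by
    obtain ⟨a, rfl, -⟩ := exists_hom u (1 : _ ⟶ G)
    exact ⟨a, IsHomLift.map (AlgSt.BG Scheme.fppfPrecoverage G).p a⟩
  M a := mapT q a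
  lifts u a hu := by
    obtain rfl := Lib.QuotSt.BGMono.bs_eq hu
    exact Lib.QuotSt.isHomLift_of_base _ (bs_mapT q a)
  map_id V := triv_ext (bs_mapT q _) (by rw [coef_mapT, coef_id, coef_id, MonObj.one_comp])
  map_comp a b := triv_ext (by
      show bs (mapT q (a ≫ b)) = bs (mapT q a) ≫ bs (mapT q b)
      rw [bs_mapT, bs_mapT, bs_mapT]; rfl) (by
      rw [coef_mapT, coef_comp, coef_comp, coef_mapT, coef_mapT, bs_mapT, MonObj.mul_comp, Category.assoc])

/-- A homomorphism gives a functor of classifying stacks compatible with the trivial torsors. -/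
theorem exists_functor [IsAffineHom G.hom] [IsAffineHom H.hom] :
    ∃ (Φ : AlgSt.BG Scheme.fppfPrecoverage G ⥤ᵇ AlgSt.BG Scheme.fppfPrecoverage H)
      (τ : ∀ V, triv H V ⟶ Φ.obj (triv G V)),
      (∀ V, (AlgSt.BG Scheme.fppfPrecoverage H).p.IsHomLift (𝟙 V) (τ V)) ∧
        ∀ {V' V : Over S} (a : triv G V' ⟶ triv G V), τ V' ≫ Φ.map a = mapT q a ≫ τ V :=
  Ext.exists_functor (D := data q) (AlgSp.J S) Lib.QuotSt.isFibGrpd
    (Lib.QuotSt.isStack (K := Scheme.fppfPrecoverage) (aX := AlgSt.trivAction H) le_rfl) fun o => by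
      obtain ⟨R, hR, hl⟩ := H14.IsoNat.BGNeutral.locally_triv G o
      exact (AlgSp.J S).superset_covering (fun V f hf => hl f hf) hR

end Groth.Agent.H14.BGPush
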