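import Groth.Agent.H14.BGPush.Chart
import Groth.Agent.H14.QuotGood.Main
import Groth.Agent.H14.QuotGood.Base
import Groth.Agent.H14.CohBC.Member
import Groth.Prelude.Def_StMod2

/-!
Cohomological affineness of classifying stacks passes to quotient groups.
-/

set_option autoImplicit false
set_option backward.isDefEq.respectTransparency false
set_option backward.isDefEq.respectTransparency.types false
set_option linter.style.haveILetI false

universe u

open CategoryTheory CategoryTheory.Limits MonoidalCategory CartesianMonoidalCategory MonObj AlgebraicGeometry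
open StMod (sch bmap fibCat baseOver etaOf)
open Groth.Agent.Lib
open Groth.Agent.Lib.QuotSt.BGMono (coef bs exists_hom triv_ext coef_comp)
open Groth.Agent.H14.IsoNat.BGNeutral (triv)
open Groth.Agent.H14.ModDesc (castTop castTop_bijective mapTop_comap castTop_castHom)
open Groth.Agent.H14.GenFam
open Groth.Agent.H14.CohDesc (relSect_mapTop)

namespace Groth.Agent.H14.BGPush

variable {S : Scheme.{u}} {G H : Over S} [GrpObj G] [GrpObj H] (q : G ⟶ H) [IsMonHom q]

theorem isPullback_whiskerRight (U : Over S) : IsPullback (q ▷ U) (fst G U) (fst H U) q := by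
  refine IsPullback.of_right ?_ (by simp) (AlgSt.isPullback_fst_snd H U).flip
  simpa [toUnit_unique (q ≫ toUnit H) (toUnit G)] using
    (AlgSt.isPullback_fst_snd G U).flip

variable (Φ : AlgSt.BG Scheme.fppfPrecoverage G ⥤ᵇ AlgSt.BG Scheme.fppfPrecoverage H)
  (τ : ∀ V, triv H V ⟶ Φ.obj (triv G V))

theorem exists_transfer [∀ V, IsIso (τ V)]
    (hnat : ∀ {V' V : Over S} (a : triv G V' ⟶ triv G V), τ V' ≫ Φ.map a = mapT q a ≫ τ V)
    (M : StMod.QCoh (AlgSt.BG Scheme.fppfPrecoverage H)) :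
    ∃ tr : ∀ V, Γ(M.obj.obj (triv H V), ⊤) →+ Γ(((StMod.comapQ Φ).obj M).obj.obj (triv G V), ⊤),
      (∀ V, Function.Bijective (tr V)) ∧
      (∀ {V' V : Over S} (a : triv G V' ⟶ triv G V) (s : Γ(M.obj.obj (triv H V), ⊤)),
        ((StMod.comapQ Φ).obj M).obj.mapTop a (tr V s) = tr V' (M.obj.mapTop (mapT q a) s)) ∧
      ∀ V s, tr V s = castTop (StMod.sch_obj_eq Φ (triv G V)) _
        (M.obj.mapTop (CategoryTheory.inv (τ V)) s) := by
  refine ⟨fun V => (castTop (StMod.sch_obj_eq Φ (triv G V)) _).comp (mapHom M.obj (CategoryTheory.inv (τ V))),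
    fun V => ?_, fun {V' V} a s => ?_, fun V s => rfl⟩
  · refine (castTop_bijective _ _).comp ?_
    refine Function.bijective_iff_has_inverse.2 ⟨M.obj.mapTop (τ V), fun s => ?_, fun s => ?_⟩
    · show M.obj.mapTop (τ V) (M.obj.mapTop (CategoryTheory.inv (τ V)) s) = s
      rw [← StMod.Mod.mapTop_comp, IsIso.hom_inv_id, StMod.Mod.mapTop_id]
    · show M.obj.mapTop (CategoryTheory.inv (τ V)) (M.obj.mapTop (τ V) s) = s
      rw [← StMod.Mod.mapTop_comp, IsIso.inv_hom_id, StMod.Mod.mapTop_id]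
  · refine (mapTop_comap Φ M.obj a _).trans (congrArg (castTop _ _) ?_)
    show M.obj.mapTop (Φ.map a) (M.obj.mapTop (CategoryTheory.inv (τ V)) s) =
      M.obj.mapTop (CategoryTheory.inv (τ V')) (M.obj.mapTop (mapT q a) s)
    rw [← StMod.Mod.mapTop_comp, ← StMod.Mod.mapTop_comp]
    congr 1
    rw [IsIso.comp_inv_eq, Category.assoc, IsIso.eq_inv_comp, hnat]

variable [IsAffineHom G.hom] [IsAffineHom H.hom] [Flat G.hom] [Flat H.hom] [Flat q.left] [Surjective q.left]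

set_option maxHeartbeats 800000 in
include q in
/-- If the classifying stack of a group is cohomologically affine, so is that of a quotient group. -/
theorem isCohAffine_of_quotient
    (σ : AlgSt.BG Scheme.fppfPrecoverage G ⥤ᵇ AlgSt.ofSch (Over.mk (𝟙 S)))
    (σ' : AlgSt.BG Scheme.fppfPrecoverage H ⥤ᵇ AlgSt.ofSch (Over.mk (𝟙 S)))
    (h : StMod.IsCohAffine σ) : StMod.IsCohAffine σ' := by
  obtain ⟨Φ, τ, hτ, hnat⟩ := exists_functor q
  have hB : FibCat.IsFibGrpd (AlgSt.BG Scheme.fppfPrecoverage H).p := Lib.QuotSt.isFibGrpd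
  have hG : FibCat.IsFibGrpd (AlgSt.BG Scheme.fppfPrecoverage G).p := Lib.QuotSt.isFibGrpd
  haveI : ∀ V, IsIso (τ V) := fun V => Lib.Fibred.StackLemmas.isIso_of_vertical hB (τ V) (hτ V)
  intro F M u hu E hE
  let θ : (AlgSt.ofSch (Over.mk (𝟙 S))).obj := etaOf E
  haveI : IsAffine θ.base.left := hE
  haveI : IsAffine (sch (AlgSt.ofSch (Over.mk (𝟙 S))) θ) := hE
  haveI : IsAffine (sch (AlgSt.ofSp ((AlgSp.ofScheme S).obj (Over.mk (𝟙 S))).obj) (etaOf E)) := hE
  obtain ⟨C, hCx, hCw, hp₁, hp₂, hq₁, hq₂⟩ := exists_chart σ' θ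
  obtain ⟨C₀, hC₀x, hC₀w, hp₁', hp₂', hq₁', hq₂'⟩ := exists_chart σ θ
  obtain ⟨Cx, Cw, Caffx, Caffw, Cp, Cq, Ccov, Cov⟩ := C
  obtain ⟨C₀x, C₀w, C₀affx, C₀affw, C₀p, C₀q, C₀cov, C₀ov⟩ := C₀
  dsimp only at hCx hCw hC₀x hC₀w
  subst hCx hCw hC₀x hC₀w
  simp only [eqToHom_refl, Category.id_comp, Category.comp_id] at hp₁ hp₂ hq₁ hq₂ hp₁' hp₂' hq₁' hq₂'
  haveI : Flat (bmap (AlgSt.ofSch (Over.mk (𝟙 S))) (𝟙 θ)) := by rw [StMod.bmap_id]; infer_instance
  refine QuotGood.relSectMap_surjective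
    (Lib.AlgStack.IsAlg.isAlgStack_ofSp ((AlgSp.ofScheme _).obj (Over.mk (𝟙 S)))).isStack.1 u
    ⟨_, _, Caffx, Caffw, Cp, Cq, Ccov, Cov⟩ (𝟙 θ) hB fun z hz => ?_
  obtain ⟨trM, trMb, trMn, trMe⟩ := exists_transfer q Φ τ hnat M
  obtain ⟨trF, trFb, trFn, trFe⟩ := exists_transfer q Φ τ hnat F
  -- the comparison of the relations
  obtain ⟨k, hk₁, hk₂⟩ := exists_hom (G := H) (q ▷ θ.base) (1 : G ⊗ θ.base ⟶ H)
  have eP : mapT q C₀p.left = k ≫ Cp.left := triv_ext (by
      show bs (mapT q C₀p.left) = bs k ≫ bs Cp.left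
      rw [bs_mapT, hp₁', hk₁, hp₁]; simp) (by
      rw [coef_mapT, coef_comp, hp₂', hk₁, hk₂, hp₂, _root_.one_mul]; simp)
  have eQ : mapT q C₀q.left = k ≫ Cq.left := triv_ext (by
      show bs (mapT q C₀q.left) = bs k ≫ bs Cq.left
      rw [bs_mapT, hq₁', hk₁, hq₁]; simp) (by
      rw [coef_mapT, coef_comp, hq₂', hk₁, hk₂, hq₂, _root_.one_mul, MonObj.comp_one, MonObj.one_comp])
  let C₁ : Chart (fibCat σ θ) := ⟨_, _, C₀affx, C₀affw, C₀p, C₀q, C₀cov, C₀ov⟩
  obtain ⟨t, ht⟩ := QuotGood.exists_relSect_of_inv hG ((StMod.comapQ Φ).obj M) C₁ (trM θ.base z) (by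
    show ((StMod.comapQ Φ).obj M).obj.mapTop C₀p.left _ = ((StMod.comapQ Φ).obj M).obj.mapTop C₀q.left _
    rw [trMn, trMn, eP, eQ, StMod.Mod.mapTop_comp, StMod.Mod.mapTop_comp]
    exact congrArg (fun w => trM _ (M.obj.mapTop k w)) hz)
  obtain ⟨s, hs⟩ := h ((StMod.comapQ Φ).map u) (CohBC.isSurj_comap Φ u hu) E hE t
  obtain ⟨v, hv⟩ := (trFb θ.base).surjective (s.1 C₁.x.left C₁.x.hom)
  refine ⟨v, ?_, ?_⟩
  · haveI : IsAffine θ.base.left := hE
    haveI : IsAffine (H ⊗ θ.base).left := QuotGood.isAffine_tensor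
    haveI : IsAffine (G ⊗ θ.base).left := QuotGood.isAffine_tensor
    have hpb := (isPullback_whiskerRight q θ.base).map (Over.forget S)
    have hfl : Flat (q ▷ θ.base).left := MorphismProperty.of_isPullback (P := @Flat) hpb.flip ‹Flat q.left›
    have hsj : Surjective (q ▷ θ.base).left :=
      MorphismProperty.of_isPullback (P := @Surjective) hpb.flip ‹Surjective q.left›
    let D : Cover (𝒳 := AlgSt.BG Scheme.fppfPrecoverage H) (triv H (H ⊗ θ.base)) PUnit.{u + 1} :=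
      { E := fun _ => triv H (G ⊗ θ.base)
        aff := fun _ => show IsAffine (G ⊗ θ.base).left from inferInstance
        e := fun _ => k
        flat := fun _ => by show Flat (bs k).left; rw [hk₁]; exact hfl
        surj := fun x => ⟨⟨⟩, by show x ∈ Set.range (bs k).left; rw [hk₁]; exact hsj.surj x⟩ }
    haveI : IsAffine (sch (AlgSt.BG Scheme.fppfPrecoverage H) (triv H (H ⊗ θ.base))) :=
      show IsAffine (H ⊗ θ.base).left from inferInstance
    refine D.eq_of_mapTop F fun _ => (trFb (G ⊗ θ.base)).injective ?_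
    show trF _ (F.obj.mapTop k (F.obj.mapTop Cp.left v)) = trF _ (F.obj.mapTop k (F.obj.mapTop Cq.left v))
    rw [← StMod.Mod.mapTop_comp, ← StMod.Mod.mapTop_comp, ← eP, ← eQ, ← trFn, ← trFn, hv]
    exact (relSect_mapTop s C₁.p).trans (relSect_mapTop s C₁.q).symm
  · refine (trMb θ.base).injective ?_
    refine Eq.trans ?_ ((congrArg (fun r : ((StMod.comapQ Φ).obj M).obj.RelSect σ θ =>
      r.1 C₁.x.left C₁.x.hom) hs).trans ht)
    show _ = (((StMod.comapQ Φ).map u).hom.app (triv G θ.base)).app ⊤ (s.1 C₁.x.left C₁.x.hom)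
    rw [← hv, trMe, trFe]
    refine Eq.trans (congrArg (castTop _ _) (StMod.Mod.mapTop_app u.hom (CategoryTheory.inv (τ θ.base)) v)) ?_
    exact (castTop_castHom _ _ _).symm

end Groth.Agent.H14.BGPush
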